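import Mathlib.GroupTheory.SpecificGroups.Alternating.Centralizer
import Cfsg.Agent.Lib.PSL2Max.Tori

/-!
Conjugacy of an element with its powers in `PSL(2, q)` and in the alternating group of degree seven.
-/

set_option autoImplicit false
set_option linter.unusedSectionVars false

namespace CfsgLib.ResThree

open Matrix CfsgLib.DicksonFull
open CfsgLib.PSL2 (mk)

section PSLFacts

variable {K : Type*} [Field K] [Fintype K] (ℓ : ℕ) [Fact ℓ.Prime] [CharP K ℓ]

local notation "SL2" => Matrix.SpecialLinearGroup (Fin 2) K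
local notation "PSL" => Matrix.ProjectiveSpecialLinearGroup (Fin 2) K
local notation "M2" => Matrix (Fin 2) (Fin 2) K

theorem pow_coe_of_sq_zero {c : SL2} (hN : (c.1 - 1) * (c.1 - 1) = 0) (n : ℕ) :
    (c ^ n).1 = 1 + (n : K) • (c.1 - 1) := by
  induction n with
  | zero => simp
  | succ n ih =>
    have hc : c.1 = 1 + (c.1 - 1) := by abel
    rw [pow_succ, Matrix.SpecialLinearGroup.coe_mul, ih]
    conv_lhs => rw [hc]
    rw [add_mul, one_mul, mul_add, mul_one, smul_mul_assoc, add_sub_cancel, hN, smul_zero, add_zero]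
    push_cast
    rw [add_smul, one_smul]
    conv_lhs => rw [hc]
    simp only [add_sub_cancel_left]
    abel

/-- A unipotent element is conjugate to its square powers. -/
theorem isConj_pow_of_unipotent {x : PSL} (hx : x ^ ℓ = 1) {n : ℕ} {k : K} (hk : k ≠ 0) (hn : (n : K) = k * k) :
    IsConj x (x ^ n) := by
  rcases eq_or_ne x 1 with rfl | h1
  · rw [one_pow]
  haveI : Fact ℓ.Prime := inferInstance
  obtain ⟨c, rfl, htr, hN, hns⟩ := exists_lift ℓ (orderOf_eq_prime hx h1)
  rw [isConj_iff]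
  suffices h : ∃ h : SL2, h.1 * (c.1 - 1) = (n : K) • ((c.1 - 1) * h.1) by
    obtain ⟨h, hh⟩ := h
    refine ⟨mk h, ?_⟩
    rw [← map_inv, ← map_mul, ← map_mul, ← map_pow]
    congr 1
    apply Subtype.ext
    rw [pow_coe_of_sq_zero hN, Matrix.SpecialLinearGroup.coe_mul, Matrix.SpecialLinearGroup.coe_mul]
    have hinv : h.1 * (h⁻¹).1 = 1 := congrArg Subtype.val (mul_inv_cancel h)
    calc h.1 * c.1 * (h⁻¹).1 = h.1 * (h⁻¹).1 + h.1 * (c.1 - 1) * (h⁻¹).1 := by
          rw [mul_sub, mul_one, sub_mul]; abel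
      _ = 1 + (n : K) • (c.1 - 1) := by rw [hh, hinv, smul_mul_assoc, mul_assoc, hinv, mul_one]
  obtain ⟨a, b, e, d, hM⟩ : ∃ a b e d : K, c.1 - 1 = !![a, b; e, d] := ⟨_, _, _, _, Matrix.eta_fin_two _⟩
  have hd : d = -a := by
    have := congrArg Matrix.trace hM
    rw [Matrix.trace_sub, htr, Matrix.trace_one, Fintype.card_fin, Matrix.trace_fin_two] at this
    simp at this
    linear_combination -this
  subst hd
  rw [hM] at hN hns ⊢
  have h00 : a * a + b * e = 0 := by simpa [Matrix.mul_apply, Fin.sum_univ_two] using congrFun (congrFun hN 0) 0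
  by_cases hb : b = 0
  · have ha : a = 0 := mul_self_eq_zero.1 (by rw [hb] at h00; linear_combination h00)
    refine ⟨⟨!![k⁻¹, 0; 0, k], by simp [Matrix.det_fin_two, hk]⟩, ?_⟩
    ext r s
    fin_cases r <;> fin_cases s <;> simp [Matrix.mul_apply, Fin.sum_univ_two, hb, ha, hn] <;>
      field_simp
  · refine ⟨⟨!![k, 0; a / b * (k⁻¹ - k), k⁻¹], by simp [Matrix.det_fin_two, hk]⟩, ?_⟩
    have he : e = -(a * a) / b := by rw [eq_div_iff hb]; linear_combination h00
    subst he
    ext r s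
    fin_cases r <;> fin_cases s <;> simp [Matrix.mul_apply, Fin.sum_univ_two, hn] <;> field_simp <;> ring

/-- An element is unipotent or semisimple and then conjugate to its inverse. -/
theorem psl_cases (hodd : Odd (Fintype.card K)) (x : PSL) :
    x ^ ℓ = 1 ∨ (IsConj x x⁻¹ ∧ (x ^ ((Fintype.card K - 1) / 2) = 1 ∨ x ^ ((Fintype.card K + 1) / 2) = 1)) := by
  by_cases hx : x ^ ℓ = 1
  · exact Or.inl hx
  right
  have hss : SS ℓ x := by
    rcases (psl (F := K) ℓ).order_cases x (fun e => hx (by rw [e, one_pow])) with h | h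
    · exact h
    · exact absurd (by rw [← h, pow_orderOf_eq_one]) hx
  obtain ⟨g, -, hg⟩ := CfsgLib.PSL2Max.exists_inverting ℓ hss
  refine ⟨isConj_iff.2 ⟨g, hg⟩, ?_⟩
  rcases SL2Orders.psl_pow_cases ℓ hodd x with h | h | h
  · exact Or.inl h
  · exact Or.inr h
  · exact absurd h hx

end PSLFacts

section Alt

open Equiv Equiv.Perm

/-- Elements of the same cycle type in the alternating group. -/
theorem alt_isConj {x y : alternatingGroup (Fin 7)}
    (h : IsConj (x : Perm (Fin 7)) (y : Perm (Fin 7)))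
    (hx : ¬ Subgroup.centralizer {(x : Perm (Fin 7))} ≤ alternatingGroup (Fin 7)) : IsConj x y := by
  obtain ⟨τ, hτ⟩ := isConj_iff.1 h
  obtain ⟨c, hc, hco⟩ := SetLike.not_le_iff_exists.1 hx
  rcases Int.units_eq_one_or (sign τ) with hs | hs
  · exact isConj_iff.2 ⟨⟨τ, mem_alternatingGroup.2 hs⟩, Subtype.ext hτ⟩
  · refine isConj_iff.2 ⟨⟨τ * c, mem_alternatingGroup.2 ?_⟩, Subtype.ext ?_⟩
    · rw [map_mul, hs, (Int.units_eq_one_or (sign c)).resolve_left fun e => hco (mem_alternatingGroup.2 e)]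
      rfl
    · show τ * c * (x : Perm (Fin 7)) * (τ * c)⁻¹ = (y : Perm (Fin 7))
      rw [← hτ, _root_.mul_inv_rev, mul_assoc τ c, Subgroup.mem_centralizer_singleton_iff.1 hc]
      group

theorem alt_centralizer {x : alternatingGroup (Fin 7)} (h7 : (x : Perm (Fin 7)) ^ 7 ≠ 1) :
    ¬ Subgroup.centralizer {(x : Perm (Fin 7))} ≤ alternatingGroup (Fin 7) := by
  intro hle
  obtain ⟨hodd, hsum, hcnt⟩ := centralizer_le_alternating_iff.1 hle
  have hle7 := sum_cycleType_le (x : Perm (Fin 7))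
  have hlcm := lcm_cycleType (x : Perm (Fin 7))
  rw [Fintype.card_fin] at hsum hle7
  set m := (x : Perm (Fin 7)).cycleType with hm
  have hnd : m.Nodup := Multiset.nodup_iff_count_le_one.2 hcnt
  have hmem : ∀ c ∈ m, c = 3 ∨ c = 5 ∨ c = 7 := fun c hc => by
    have h2 : 2 ≤ c := two_le_of_mem_cycleType hc
    have h7' : c ≤ 7 := (Multiset.le_sum_of_mem hc).trans hle7
    obtain ⟨k, hk⟩ := hodd c hc
    omega
  have key : ∀ s ∈ ({3, 5, 7} : Finset ℕ).powerset, 7 ≤ s.sum id + 1 → s.sum id ≤ 7 → s.lcm id ∣ 7 := by decide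
  have hs := key ⟨m, hnd⟩ (Finset.mem_powerset.2 fun c hc => by simpa using hmem c hc)
    (by simpa [Finset.sum] using hsum) (by simpa [Finset.sum] using hle7)
  have hl : (⟨m, hnd⟩ : Finset ℕ).lcm id = orderOf (x : Perm (Fin 7)) := by
    rw [← hlcm, Finset.lcm_def, Multiset.map_id]
  rw [hl] at hs
  exact h7 (orderOf_dvd_iff_pow_eq_one.1 hs)

theorem cycle_orders {m : Multiset ℕ} (h2 : ∀ c ∈ m, 2 ≤ c) (h7 : m.sum ≤ 7)
    (he : Even (m.sum + Multiset.card m)) : m.lcm ∣ 4 ∨ m.lcm ∣ 5 ∨ m.lcm ∣ 6 ∨ m.lcm ∣ 7 := by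
  have hc : Multiset.card m ≤ 3 := by
    have := Multiset.card_nsmul_le_sum h2
    simp only [smul_eq_mul] at this
    omega
  rcases Nat.lt_or_ge (Multiset.card m) 1 with h | h
  · rw [Multiset.card_eq_zero.1 (by omega : Multiset.card m = 0)]
    exact Or.inl (by simp)
  interval_cases hn : Multiset.card m
  · obtain ⟨a, rfl⟩ := Multiset.card_eq_one.1 hn
    simp at h2 h7 he
    interval_cases a <;> first | omega | exact absurd he (by decide) | decide
  · obtain ⟨a, b, rfl⟩ := Multiset.card_eq_two.1 hn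
    simp at h2 h7 he
    obtain ⟨ha, hb⟩ := h2
    have : a ≤ 5 := by omega
    have : b ≤ 5 := by omega
    interval_cases a <;> interval_cases b <;> first | omega | exact absurd he (by decide) | decide
  · obtain ⟨a, b, c, rfl⟩ := Multiset.card_eq_three.1 hn
    simp at h2 h7 he
    obtain ⟨ha, hb, hc'⟩ := h2
    have : a ≤ 3 := by omega
    have : b ≤ 3 := by omega
    have : c ≤ 3 := by omega
    interval_cases a <;> interval_cases b <;> interval_cases c <;> first | omega | exact absurd he (by decide) | decide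

theorem alt_orders (x : alternatingGroup (Fin 7)) : x ^ 4 = 1 ∨ x ^ 5 = 1 ∨ x ^ 6 = 1 ∨ x ^ 7 = 1 := by
  have hs := mem_alternatingGroup.1 x.2
  rw [sign_of_cycleType, neg_one_pow_eq_one_iff_even (by decide)] at hs
  have hle7 := sum_cycleType_le (x : Perm (Fin 7))
  rw [Fintype.card_fin] at hle7
  have key := cycle_orders (fun c hc => two_le_of_mem_cycleType hc) hle7 hs
  rw [lcm_cycleType] at key
  have hx : ∀ n, orderOf (x : Perm (Fin 7)) ∣ n → x ^ n = 1 := fun n h =>
    orderOf_dvd_iff_pow_eq_one.1 (Subgroup.orderOf_coe x ▸ h)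
  exact key.imp (hx 4) (Or.imp (hx 5) (Or.imp (hx 6) (hx 7)))

/-- The classes of the alternating group of degree seven: everything outside the elements of order seven is
conjugate to its inverse, elements of order five and seven are conjugate to their squares. -/
theorem alt_cases (x : alternatingGroup (Fin 7)) :
    (x ^ 5 = 1 ∧ IsConj x (x ^ 2)) ∨ (x ^ 7 = 1 ∧ IsConj x (x ^ 2)) ∨
      (IsConj x x⁻¹ ∧ (x ^ 4 = 1 ∨ x ^ 6 = 1)) := by
  have hpow : ∀ p : ℕ, p.Prime → 2 < p → x ^ p = 1 → IsConj (x : Perm (Fin 7)) ((x : Perm (Fin 7)) ^ 2) := by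
    intro p hp hp2 h
    rcases eq_or_ne (x : Perm (Fin 7)) 1 with e | e
    · rw [e, one_pow]
    refine isConj_iff_cycleType_eq.2 ?_
    haveI : Fact p.Prime := ⟨hp⟩
    have ho : orderOf (x : Perm (Fin 7)) = p := orderOf_eq_prime (by rw [← Subgroup.coe_pow, h]; rfl) e
    obtain ⟨n, hn⟩ := cycleType_prime_order (σ := (x : Perm (Fin 7))) (ho ▸ hp)
    have hcop : Nat.Coprime 2 (orderOf (x : Perm (Fin 7))) := by
      rw [ho]; exact (Nat.coprime_primes Nat.prime_two hp).2 hp2.ne
    have ho2 : orderOf ((x : Perm (Fin 7)) ^ 2) = p := by rw [Nat.Coprime.orderOf_pow hcop.symm, ho] 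
    obtain ⟨n', hn'⟩ := cycleType_prime_order (σ := (x : Perm (Fin 7)) ^ 2) (ho2 ▸ hp)
    have hsupp := support_pow_coprime (σ := (x : Perm (Fin 7))) (n := 2) hcop
    have h1 := sum_cycleType (x : Perm (Fin 7))
    have h2 := sum_cycleType ((x : Perm (Fin 7)) ^ 2)
    rw [hn, Multiset.sum_replicate, ho, smul_eq_mul] at h1
    rw [hn', Multiset.sum_replicate, ho2, smul_eq_mul, hsupp, ← h1] at h2
    rw [hn, hn', ho, ho2, Nat.eq_of_mul_eq_mul_right hp.pos h2]
  rcases eq_or_ne ((x : Perm (Fin 7)) ^ 7) 1 with h7 | h7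
  · right; left
    have h7' : x ^ 7 = 1 := Subtype.ext (by rw [Subgroup.coe_pow, h7]; rfl)
    refine ⟨h7', ?_⟩
    rcases eq_or_ne x 1 with rfl | hx1
    · rw [one_pow]
    obtain ⟨τ, hτ⟩ := isConj_iff.1 (hpow 7 (by norm_num) (by norm_num) h7')
    set σ : Perm (Fin 7) := (x : Perm (Fin 7)) with hσ
    have h3 : ∀ k, τ * σ ^ k * τ⁻¹ = σ ^ (2 * k) := fun k => by rw [← conj_pow, hτ, pow_mul]
    have hc : τ ^ 3 * σ * (τ ^ 3)⁻¹ = σ := by
      calc τ ^ 3 * σ * (τ ^ 3)⁻¹ = τ * (τ * (τ * σ * τ⁻¹) * τ⁻¹) * τ⁻¹ := by simp [pow_succ, mul_assoc]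
        _ = σ := by rw [hτ, h3, h3, show 2 * (2 * 2) = 7 + 1 from rfl, pow_succ, h7, one_mul]
    have hne : σ ≠ 1 := fun e => hx1 (Subtype.ext e)
    have hsgn : sign τ = 1 := by
      rcases eq_or_ne σ 1 with e | e
      · exact absurd e hne
      · have hcyc : σ.IsCycle := by
          haveI : Fact (Nat.Prime 7) := ⟨by norm_num⟩
          refine Equiv.Perm.isCycle_of_prime_order' ((orderOf_eq_prime h7 e).symm ▸ (by norm_num)) ?_
          rw [orderOf_eq_prime h7 e, Fintype.card_fin]; norm_num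
        have hle : Subgroup.centralizer {σ} ≤ alternatingGroup (Fin 7) := by
          haveI : Fact (Nat.Prime 7) := ⟨by norm_num⟩
          rw [centralizer_le_alternating_iff, hcyc.cycleType]
          have : σ.support.card = 7 := by rw [← hcyc.orderOf, orderOf_eq_prime h7 e]
          refine ⟨?_, ?_, fun i => Multiset.nodup_iff_count_le_one.1 (Multiset.nodup_singleton _) i⟩ <;>
            simp [this, Fintype.card_fin, Nat.odd_iff]
        have := hle (Subgroup.mem_centralizer_singleton_iff.2 (mul_inv_eq_iff_eq_mul.1 hc))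
        rw [mem_alternatingGroup, map_pow] at this
        rcases Int.units_eq_one_or (sign τ) with hs | hs
        · exact hs
        · rw [hs] at this; exact absurd this (by decide)
    exact isConj_iff.2 ⟨⟨τ, mem_alternatingGroup.2 hsgn⟩, Subtype.ext hτ⟩
  · rcases alt_orders x with h | h | h | h
    · exact Or.inr (Or.inr ⟨alt_isConj (isConj_iff_cycleType_eq.2 (cycleType_inv _).symm) (alt_centralizer h7), Or.inl h⟩)
    · exact Or.inl ⟨h, alt_isConj (hpow 5 Nat.prime_five (by norm_num) h) (alt_centralizer h7)⟩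
    · exact Or.inr (Or.inr ⟨alt_isConj (isConj_iff_cycleType_eq.2 (cycleType_inv _).symm) (alt_centralizer h7), Or.inr h⟩)
    · exact absurd (by rw [← Subgroup.coe_pow, h]; rfl) h7

end Alt

end CfsgLib.ResThree
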