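import Mathlib

/-!
Traces of powers of three by three matrices of determinant one.
-/

set_option autoImplicit false
set_option linter.unusedSectionVars false

namespace CfsgLib.ResThree

open Matrix Polynomial

theorem trace_pow_char_eq {n : Type*} [DecidableEq n] [Fintype n] [Nonempty n] {F : Type*} [Field F] (p : ℕ)
    [Fact p.Prime] [CharP F p] (M : Matrix n n F) : (M ^ p).trace = M.trace ^ p := by
  have key : (M ^ p).charpoly = M.charpoly.map (frobenius F p) := by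
    refine expand_injective (R := F) (Fact.out : p.Prime).pos ?_
    rw [← map_expand, map_frobenius_expand]
    unfold Matrix.charpoly
    rw [AlgHom.map_det, ← coe_detMonoidHom, ← (detMonoidHom : Matrix n n F[X] →* F[X]).map_pow]
    refine congrArg det (matPolyEquiv.injective ?_)
    rw [map_pow, matPolyEquiv_charmatrix, sub_pow_char_of_commute (p := p) (C M).commute_X, ← C_pow]
    exact matPolyEquiv_eq_X_pow_sub_C p M
  rw [Matrix.trace_eq_neg_charpoly_coeff, Matrix.trace_eq_neg_charpoly_coeff, key, coeff_map, frobenius_def,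
    neg_pow (M.charpoly.coeff (Fintype.card n - 1)) p]
  by_cases h2 : p = 2
  · subst h2
    simp [CharTwo.neg_eq]
  · rw [Odd.neg_one_pow ((Fact.out : p.Prime).odd_of_ne_two h2)]
    ring

theorem eq_one_of_coprime_pows {G : Type*} [Monoid G] {x : G} {m n : ℕ} (hm : x ^ m = 1) (hn : x ^ n = 1)
    (h : m.Coprime n) : x = 1 :=
  orderOf_eq_one_iff.1 (Nat.eq_one_of_dvd_coprimes h (orderOf_dvd_of_pow_eq_one hm) (orderOf_dvd_of_pow_eq_one hn))

variable {F : Type*} [Field F]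

local notation "G3" => Matrix.GeneralLinearGroup (Fin 3) F
local notation "M3" => Matrix (Fin 3) (Fin 3) F

/-- The trace. -/
abbrev tr (g : Matrix.GeneralLinearGroup (Fin 3) F) : F := g.1.trace

variable {g : Matrix.GeneralLinearGroup (Fin 3) F}

theorem inv_eq_adjugate (hd : g.1.det = 1) : (g⁻¹ : G3).1 = g.1.adjugate := by
  rw [Matrix.coe_units_inv, Matrix.inv_def, hd, Ring.inverse_one, one_smul]

theorem tr_sq (hd : g.1.det = 1) : tr (g ^ 2) = tr g ^ 2 - 2 * tr g⁻¹ := by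
  simp only [tr]
  rw [inv_eq_adjugate hd, Units.val_pow_eq_pow_val, pow_two, Matrix.adjugate_fin_three]
  simp [Matrix.trace_fin_three, Matrix.mul_apply, Fin.sum_univ_three]
  ring

theorem cayley (hd : g.1.det = 1) : g.1 ^ 3 = tr g • g.1 ^ 2 - tr g⁻¹ • g.1 + 1 := by
  have hadj : g.1.adjugate = g.1 ^ 2 - tr g • g.1 + tr g⁻¹ • (1 : M3) := by
    simp only [tr]
    rw [inv_eq_adjugate hd, Matrix.adjugate_fin_three, pow_two]
    ext i j
    fin_cases i <;> fin_cases j <;>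
      simp [Matrix.trace_fin_three, Matrix.mul_apply, Fin.sum_univ_three] <;> ring
  have h := Matrix.mul_adjugate g.1
  rw [hd, one_smul, hadj, mul_add, mul_sub, Matrix.mul_smul, Matrix.mul_smul, mul_one, ← pow_two, ← pow_succ'] at h
  rw [← h]
  abel

theorem tr_one : tr (1 : G3) = 3 := by simp [tr]

theorem tr_add_three (hd : g.1.det = 1) (n : ℕ) :
    tr (g ^ (n + 3)) = tr g * tr (g ^ (n + 2)) - tr g⁻¹ * tr (g ^ (n + 1)) + tr (g ^ n) := by
  have h : g.1 ^ (n + 3) = tr g • g.1 ^ (n + 2) - tr g⁻¹ • g.1 ^ (n + 1) + g.1 ^ n := by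
    rw [pow_add, cayley hd, mul_add, mul_sub, Matrix.mul_smul, Matrix.mul_smul, ← pow_add, ← pow_succ, mul_one]
  have h' := congrArg Matrix.trace h
  simpa [tr, Units.val_pow_eq_pow_val] using h'

theorem tr_conj {x y : G3} (h : IsConj x y) : tr x = tr y := by
  obtain ⟨c, rfl⟩ := isConj_iff.1 h
  simp only [tr, Units.val_mul]
  rw [Matrix.trace_mul_comm, ← Matrix.mul_assoc, Units.inv_mul, one_mul]

theorem pow_three_eq_one_of_tr (hd : g.1.det = 1) (ha : tr g = 0) (hb : tr g⁻¹ = 0) : g ^ 3 = 1 :=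
  Units.ext (by rw [Units.val_pow_eq_pow_val, cayley hd, ha, hb]; simp)

theorem pow_char_of_tr_three (p : ℕ) [Fact p.Prime] [CharP F p] (hd : g.1.det = 1) (ha : tr g = 3)
    (hb : tr g⁻¹ = 3) : g ^ p ^ 2 = 1 := by
  refine Units.ext ?_
  rw [Units.val_pow_eq_pow_val, Units.val_one]
  have h3 : (g.1 - 1) ^ 3 = 0 := by
    have hc := cayley hd
    rw [ha, hb] at hc
    have e : (g.1 - 1) ^ 3 = g.1 ^ 3 - (3 : F) • g.1 ^ 2 + (3 : F) • g.1 - 1 := by
      rw [show (3 : F) = (1 : F) + 1 + 1 by norm_num]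
      simp only [add_smul, one_smul, pow_succ, pow_zero, one_mul, mul_sub, sub_mul, mul_one]
      abel
    rw [e, hc]
    abel
  have h4 : 3 ≤ p ^ 2 := by
    have := (Fact.out : p.Prime).two_le
    nlinarith
  rw [← sub_eq_zero, ← pow_eq_zero_of_le h4 h3, sub_pow_char_pow_of_commute (p := p) _ (Commute.one_right _), one_pow]

theorem eq_one_of_tr_three {p n : ℕ} [Fact p.Prime] [CharP F p] (hd : g.1.det = 1) (ha : tr g = 3)
    (hb : tr g⁻¹ = 3) (hn : g ^ n = 1) (hcop : p.Coprime n) : g = 1 :=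
  eq_one_of_coprime_pows (pow_char_of_tr_three p hd ha hb) hn (Nat.Coprime.pow_left 2 hcop)

theorem tr_of_pow_char (p : ℕ) [Fact p.Prime] [CharP F p] {k : ℕ} (h : g ^ p ^ k = 1) : tr g = 3 := by
  have hn : IsNilpotent (g.1 - 1) := ⟨p ^ k, by
    rw [sub_pow_char_pow_of_commute (p := p) _ (Commute.one_right _), one_pow, ← Units.val_pow_eq_pow_val, h, Units.val_one,
      sub_self]⟩
  have := (Matrix.isNilpotent_trace_of_isNilpotent hn).eq_zero
  rwa [Matrix.trace_sub, Matrix.trace_one, Fintype.card_fin, sub_eq_zero, Nat.cast_ofNat] at this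

theorem inv_eq_pow {n : ℕ} (h : g ^ (n + 1) = 1) : g⁻¹ = g ^ n :=
  inv_eq_of_mul_eq_one_right (by rw [← pow_succ']; exact h)

theorem order_two (hd : g.1.det = 1) (h : g ^ 2 = 1) : tr g = 3 ∨ tr g = -1 := by
  have h2 := tr_sq hd
  rw [h, tr_one, inv_eq_pow (n := 1) h, pow_one] at h2
  rcases mul_eq_zero.1 (show (tr g - 3) * (tr g + 1) = 0 by linear_combination -h2) with e | e
  · exact Or.inl (sub_eq_zero.1 e)
  · exact Or.inr (eq_neg_of_add_eq_zero_left e)

theorem order_three (hd : g.1.det = 1) (h : g ^ 3 = 1) :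
    tr g ^ 2 = 3 * tr g⁻¹ ∧ tr g⁻¹ ^ 2 = 3 * tr g := by
  have hi : g⁻¹ = g ^ 2 := inv_eq_pow (n := 2) h
  have h2 := tr_sq hd
  rw [← hi] at h2
  have hd' : (g⁻¹ : G3).1.det = 1 := by
    rw [inv_eq_adjugate hd, Matrix.det_adjugate, hd]; simp
  have h3 := tr_sq (g := g⁻¹) hd'
  rw [inv_inv, ← inv_eq_pow (n := 2) (g := g⁻¹) (by rw [inv_pow, h, inv_one]), inv_inv] at h3
  exact ⟨by linear_combination -h2, by linear_combination -h3⟩

theorem order_four (hd : g.1.det = 1) (h : g ^ 4 = 1) (hab : tr g⁻¹ = tr g) :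
    tr g = 3 ∨ tr g = -1 ∨ tr g = 1 := by
  have h4 := tr_add_three hd 1
  have h3 := tr_add_three hd 0
  rw [h, tr_one, h3, pow_one, tr_sq hd, hab, pow_zero, tr_one] at h4
  rcases mul_eq_zero.1 (show ((tr g - 1) * (tr g - 1)) * ((tr g - 3) * (tr g + 1)) = 0 by linear_combination -h4)
    with e | e
  · exact Or.inr (Or.inr (sub_eq_zero.1 (mul_self_eq_zero.1 e)))
  · rcases mul_eq_zero.1 e with e' | e'
    · exact Or.inl (sub_eq_zero.1 e')
    · exact Or.inr (Or.inl (eq_neg_of_add_eq_zero_left e'))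

theorem order_six (hd : g.1.det = 1) (h : g ^ 6 = 1) (hab : tr g⁻¹ = tr g) :
    tr g ^ 2 - 2 * tr g = 0 ∨ tr g ^ 2 - 2 * tr g = 3 := by
  have hd' : (g⁻¹ : G3).1.det = 1 := by
    rw [inv_eq_adjugate hd, Matrix.det_adjugate, hd]; simp
  have hdd : (g ^ 2 : G3).1.det = 1 := by rw [Units.val_pow_eq_pow_val, Matrix.det_pow, hd, one_pow]
  have ht2 : tr (g ^ 2) = tr g ^ 2 - 2 * tr g := by rw [tr_sq hd, hab]
  have ht2' : tr (g ^ 2)⁻¹ = tr g ^ 2 - 2 * tr g := by
    rw [← inv_pow, tr_sq hd', hab, inv_inv]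
  have h3 := (order_three hdd (by rw [← pow_mul, h])).1
  rw [ht2, ht2'] at h3
  rcases mul_eq_zero.1 (show (tr g ^ 2 - 2 * tr g) * (tr g ^ 2 - 2 * tr g - 3) = 0 by linear_combination h3) with e | e
  · exact Or.inl e
  · exact Or.inr (sub_eq_zero.1 e)

theorem order_five {p : ℕ} [Fact p.Prime] [CharP F p] (hd : g.1.det = 1) (h : g ^ 5 = 1)
    (hab : tr g⁻¹ = tr g) : g = 1 ∨ p = 5 ∧ tr g = 3 ∨ p ≠ 5 ∧ tr g * tr g - tr g - 1 = 0 := by
  by_cases hp : p = 5
  · subst hp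
    exact Or.inr (Or.inl ⟨rfl, tr_of_pow_char 5 (k := 1) (by rw [pow_one]; exact h)⟩)
  have h4 := tr_add_three hd 1
  have h3 := tr_add_three hd 0
  simp only [Nat.reduceAdd, zero_add] at h3 h4
  rw [← inv_eq_pow (n := 4) h, h3, pow_one, tr_sq hd, hab, pow_zero, tr_one] at h4
  rcases mul_eq_zero.1 (show (tr g * (tr g - 3)) * (tr g * tr g - tr g - 1) = 0 by linear_combination -h4) with e | e
  · left
    rcases mul_eq_zero.1 e with e' | e'
    · exact eq_one_of_coprime_pows (pow_three_eq_one_of_tr hd e' (hab.trans e')) h (by norm_num)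
    · exact eq_one_of_tr_three (p := p) hd (sub_eq_zero.1 e') (hab.trans (sub_eq_zero.1 e')) h
        ((Nat.coprime_primes Fact.out Nat.prime_five).2 hp)
  · exact Or.inr (Or.inr ⟨hp, e⟩)

theorem order_five_sq (hd : g.1.det = 1) (hab : tr g⁻¹ = tr g) (hsq : tr (g ^ 2) = tr g) : tr g = 0 ∨ tr g = 3 := by
  rw [tr_sq hd, hab] at hsq
  rcases mul_eq_zero.1 (show tr g * (tr g - 3) = 0 by linear_combination hsq) with e | e
  · exact Or.inl e
  · exact Or.inr (sub_eq_zero.1 e)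

theorem order_seven {p : ℕ} [Fact p.Prime] [CharP F p] (hd : g.1.det = 1) (h : g ^ 7 = 1) (h1 : g ≠ 1) (hp : p ≠ 7)
    (hsq : tr (g ^ 2) = tr g) (hsq' : tr (g⁻¹ ^ 2) = tr g⁻¹) :
    tr g + tr g⁻¹ = -1 ∧ tr g * tr g + tr g + 2 = 0 ∧ tr g⁻¹ ≠ tr g := by
  have hd' : (g⁻¹ : G3).1.det = 1 := by
    rw [inv_eq_adjugate hd, Matrix.det_adjugate, hd]; simp
  rw [tr_sq hd] at hsq
  rw [tr_sq hd', inv_inv] at hsq'
  have hne : tr g⁻¹ ≠ tr g := by
    intro e
    rw [e] at hsq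
    rcases mul_eq_zero.1 (show tr g * (tr g - 3) = 0 by linear_combination hsq) with e' | e'
    · exact h1 (eq_one_of_coprime_pows (pow_three_eq_one_of_tr hd e' (e.trans e')) h (by norm_num))
    · exact h1 (eq_one_of_tr_three (p := p) hd (sub_eq_zero.1 e') (e.trans (sub_eq_zero.1 e')) h
        ((Nat.coprime_primes Fact.out (by norm_num)).2 hp))
  have hs : tr g + tr g⁻¹ = -1 := by
    rcases mul_eq_zero.1 (show (tr g - tr g⁻¹) * (tr g + tr g⁻¹ + 1) = 0 by linear_combination hsq - hsq') with e | e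
    · exact absurd (sub_eq_zero.1 e).symm hne
    · exact eq_neg_of_add_eq_zero_left e
  exact ⟨hs, by linear_combination hsq + 2 * hs, hne⟩

theorem tr_pow_char (p : ℕ) [Fact p.Prime] [CharP F p] : tr g ^ p = tr (g ^ p) := by
  show g.1.trace ^ p = (g ^ p : G3).1.trace
  rw [Units.val_pow_eq_pow_val, trace_pow_char_eq]

theorem pow_char_mod {p n : ℕ} [Fact p.Prime] [CharP F p] (h : g ^ n = 1) : tr g ^ p = tr (g ^ (p % n)) := by
  rw [tr_pow_char, ← pow_eq_pow_mod p h]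

theorem five_frob {p : ℕ} [Fact p.Prime] [CharP F p] (hd : g.1.det = 1) (h : g ^ 5 = 1) (hab : tr g⁻¹ = tr g)
    (hq : tr g * tr g - tr g - 1 = 0) :
    (p % 5 = 1 ∨ p % 5 = 4 → tr g ^ p = tr g) ∧ (p % 5 = 2 ∨ p % 5 = 3 → tr g ^ p = 1 - tr g) := by
  have h2 : tr (g ^ 2) = 1 - tr g := by rw [tr_sq hd, hab]; linear_combination hq
  have h3 : tr (g ^ 3) = 1 - tr g := by
    have := tr_add_three hd 0
    simp only [Nat.reduceAdd, zero_add] at this
    rw [this, h2, hab, pow_one, pow_zero, tr_one]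
    linear_combination -2 * hq
  constructor <;> rintro (e | e) <;> rw [pow_char_mod h, e]
  · rw [pow_one]
  · rw [← inv_eq_pow (n := 4) h, hab]
  · exact h2
  · exact h3

theorem seven_frob {p : ℕ} [Fact p.Prime] [CharP F p] (hd : g.1.det = 1) (h : g ^ 7 = 1)
    (hsq : tr (g ^ 2) = tr g) (hsq' : tr (g⁻¹ ^ 2) = tr g⁻¹) :
    (p % 7 = 1 ∨ p % 7 = 2 ∨ p % 7 = 4 → tr g ^ p = tr g) ∧
      (p % 7 = 3 ∨ p % 7 = 5 ∨ p % 7 = 6 → tr g ^ p = tr g⁻¹) := by
  have hdd : (g ^ 2 : G3).1.det = 1 := by rw [Units.val_pow_eq_pow_val, Matrix.det_pow, hd, one_pow]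
  have hd' : (g⁻¹ : G3).1.det = 1 := by
    rw [inv_eq_adjugate hd, Matrix.det_adjugate, hd]; simp
  have hdd' : (g⁻¹ ^ 2 : G3).1.det = 1 := by rw [Units.val_pow_eq_pow_val, Matrix.det_pow, hd', one_pow]
  have h4 : tr (g ^ 4) = tr g := by
    rw [show (4 : ℕ) = 2 * 2 from rfl, pow_mul, tr_sq hdd, ← inv_pow, hsq, hsq', ← tr_sq hd, hsq]
  have h4' : tr (g⁻¹ ^ 4) = tr g⁻¹ := by
    rw [show (4 : ℕ) = 2 * 2 from rfl, pow_mul, tr_sq hdd', hsq', ← inv_pow, inv_inv, hsq]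
    have := tr_sq hd'
    rw [inv_inv, hsq'] at this
    exact this.symm
  constructor
  · rintro (e | e | e) <;> rw [pow_char_mod h, e]
    · rw [pow_one]
    · exact hsq
    · exact h4
  · rintro (e | e | e) <;> rw [pow_char_mod h, e]
    · rw [show g ^ 3 = g⁻¹ ^ 4 by rw [inv_pow, eq_inv_iff_mul_eq_one, ← pow_add]; exact h, h4']
    · rw [show g ^ 5 = g⁻¹ ^ 2 by rw [inv_pow, eq_inv_iff_mul_eq_one, ← pow_add]; exact h, hsq']
    · rw [← inv_eq_pow (n := 6) h]

end CfsgLib.ResThree
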