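import Cfsg.Agent.Lib.MaxSub.ResThree.RankOne
import Cfsg.Agent.Lib.MaxSub.ResThree.Setup
import Cfsg.Agent.Lib.MaxSub.ResThree.Forms
import Cfsg.Agent.Lib.MaxSub.ResThree.Dihedral.Traces

/-!
The field of a primitive group from the Frobenius action on its traces.
-/

set_option autoImplicit false
set_option linter.unusedSectionVars false
set_option linter.style.haveILetI false

namespace CfsgLib.ResThree

open Matrix

variable {F : Type*} [Field F]

local notation "G3" => Matrix.GeneralLinearGroup (Fin 3) F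
local notation "V" => Fin 3 → F

/-- A non-degenerate hermitian form is fixed. -/
def FixesUnitary (P : Subgroup (Matrix.GeneralLinearGroup (Fin 3) F)) : Prop :=
  ∃ (σ : F ≃+* F) (f : (Fin 3 → F) → (Fin 3 → F) → F),
    Cfsg.Geo.IsUnitaryForm σ f ∧ Cfsg.Geo.FixesForm (Cfsg.Geo.matrixSet P) f

variable [Fintype F] {P : Subgroup (Matrix.GeneralLinearGroup (Fin 3) F)} {p : ℕ} [Fact p.Prime] [CharP F p]

theorem card_le_of_forall_pow {k : ℕ} (hk : 1 ≤ k) (h : ∀ x : F, x ^ p ^ k = x) : Fintype.card F ≤ p ^ k := by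
  have h2 : 1 < p ^ k := Nat.one_lt_pow (by omega) (Fact.out : p.Prime).one_lt
  have hu : ∀ x : Fˣ, x ^ (p ^ k - 1) = 1 := fun x => by
    have := h (x : F)
    apply Units.ext
    rw [Units.val_pow_eq_pow_val, Units.val_one]
    apply mul_right_cancel₀ x.ne_zero
    rw [← pow_succ, Nat.sub_add_cancel h2.le, this, one_mul]
  have := Nat.le_of_dvd (by omega) ((FiniteField.forall_pow_eq_one_iff F (p ^ k - 1)).1 hu)
  omega

theorem char_le_card : p ≤ Fintype.card F := by
  obtain ⟨n, -, hn⟩ := FiniteField.card F p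
  rw [hn]
  exact Nat.le_self_pow n.ne_zero p

/-- A primitive group whose traces are fixed by a power of the Frobenius. -/
theorem forall_pow_of_traces (hP : Core P) (hprim : Primitive P) {k : ℕ} (h : ∀ g ∈ P, tr g ^ p ^ k = tr g) :
    ∀ x : F, x ^ p ^ k = x := by
  set S := RingHom.eqLocusField (iterateFrobenius F p k) (RingHom.id F) with hS
  have hmem : ∀ x : F, x ∈ S ↔ x ^ p ^ k = x := fun x => by
    show iterateFrobenius F p k x = RingHom.id F x ↔ _
    rw [iterateFrobenius_def, RingHom.id_apply]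
  intro x
  rw [← hmem]
  by_contra hx
  refine hprim S (fun e => hx (by rw [e]; trivial)) ?_
  exact realisable_of_trace_three hP.envelope_top fun g hg => (hmem _).2 (h g hg)

theorem card_eq_char (hP : Core P) (hprim : Primitive P) (h : ∀ g ∈ P, tr g ^ p = tr g) : Fintype.card F = p := by
  have := card_le_of_forall_pow (p := p) le_rfl
    (forall_pow_of_traces hP hprim (k := 1) (fun g hg => by rw [pow_one]; exact h g hg))
  rw [pow_one] at this
  exact le_antisymm this char_le_card

theorem card_eq_sq (hP : Core P) (hprim : Primitive P) (h : ∀ g ∈ P, (tr g ^ p) ^ p = tr g) {g : G3}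
    (hne : tr g ^ p ≠ tr g) : Fintype.card F = p ^ 2 := by
  have hle := card_le_of_forall_pow (p := p) (by norm_num : 1 ≤ 2)
    (forall_pow_of_traces hP hprim (k := 2) (fun g hg => by rw [pow_two, pow_mul]; exact h g hg))
  obtain ⟨n, hp, hn⟩ := FiniteField.card F p
  rw [hn] at hle ⊢
  have h2 : (n : ℕ) ≤ 2 := (Nat.pow_le_pow_iff_right hp.one_lt).1 hle
  rcases (show (n : ℕ) = 1 ∨ (n : ℕ) = 2 by have := n.pos; omega) with e | e
  · exfalso
    refine hne ?_
    have := FiniteField.pow_card (tr g)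
    rwa [hn, e, pow_one] at this
  · rw [e]

theorem pow_sq_card (hcard : Fintype.card F = p ^ 2) (x : F) : (x ^ p) ^ p = x := by
  rw [← pow_mul, ← pow_two, ← hcard, FiniteField.pow_card]

theorem fixesUnitary_of_traces (hP : Core P) (hcard : Fintype.card F = p ^ 2)
    (h : ∀ g ∈ P, tr g ^ p = tr g⁻¹) : FixesUnitary P := by
  let σ : F ≃+* F := RingEquiv.ofBijective (frobenius F p)
    ⟨frobenius_inj F p, Finite.injective_iff_surjective.1 (frobenius_inj F p)⟩
  have hσ : ∀ a, σ a = a ^ p := fun a => frobenius_def p a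
  have hne : σ ≠ RingEquiv.refl F := fun e => by
    have hle := card_le_of_forall_pow (F := F) (p := p) le_rfl (fun x => by
      rw [pow_one, ← hσ, e]; rfl)
    rw [pow_one, hcard] at hle
    have := (Fact.out : p.Prime).two_le
    nlinarith
  obtain ⟨f, hf⟩ := exists_unitary hP.envelope_top σ hne (fun a => by rw [hσ, hσ, pow_sq_card hcard])
    (fun g hg => by rw [hσ]; exact h g hg)
  exact ⟨σ, f, hf⟩

/-- The matrix of a form determines the trace of an inverse. -/
theorem trace_inv_of_fixes {σ : F ≃+* F} {f : V → V → F} (hf : Cfsg.Geo.IsUnitaryForm σ f)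
    (hfix : Cfsg.Geo.FixesForm (Cfsg.Geo.matrixSet P) f) {g : G3} (hg : g ∈ P) : tr g⁻¹ = σ (tr g) := by
  classical
  let B : Matrix (Fin 3) (Fin 3) F := Matrix.of fun i j => f (Pi.single j 1) (Pi.single i 1)
  have hsr : ∀ (c : F) v w, f v (c • w) = σ c * f v w := fun c v w => by
    rw [hf.herm v (c • w), hf.smul_left, map_mul, ← hf.herm]
  have har : ∀ v x y, f v (x + y) = f v x + f v y := fun v x y => by
    rw [hf.herm v (x + y), hf.add_left, map_add, ← hf.herm, ← hf.herm]
  have hexp : ∀ u v, f u v = formOf σ B u v := by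
    intro u v
    have hu : u = ∑ j, u j • Pi.single j (1 : F) := by
      ext k; simp [Pi.single_apply]
    have hv : v = ∑ i, v i • Pi.single i (1 : F) := by
      ext k; simp [Pi.single_apply]
    conv_lhs => rw [hu, hv]
    simp only [Fin.sum_univ_three, hf.add_left, hf.smul_left, har, hsr]
    simp [formOf, B, Matrix.mulVec, dotProduct, Fin.sum_univ_three]
    ring
  have hdet : B.det ≠ 0 := by
    intro h
    obtain ⟨v, hv0, hv⟩ := Matrix.exists_mulVec_eq_zero_iff.2 h
    obtain ⟨x, hx⟩ := (hf.nondegenerate v hv0).2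
    apply hx
    rw [hexp, formOf, hv, dotProduct_zero]
  have hinv : (g.1.map σ)ᵀ * B * g.1 = B := by
    have hσs : ∀ i : Fin 3, σ ∘ (Pi.single i (1 : F)) = Pi.single i 1 := fun i => by
      funext k; by_cases hk : k = i <;> simp [hk, map_one]
    have hval : ∀ (M : Matrix (Fin 3) (Fin 3) F) i j, formOf σ M (Pi.single j 1) (Pi.single i 1) = M i j := by
      intro M i j
      rw [formOf, hσs, single_dotProduct, one_mul, Matrix.mulVec_single_one]
      rfl
    ext i j
    rw [← hval ((g.1.map σ)ᵀ * B * g.1) i j, ← hval B i j, ← hexp]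
    rw [← hfix g.1 ⟨g, hg, rfl⟩, hexp]
    have hv : σ ∘ (g.1 *ᵥ Pi.single i (1 : F)) = g.1.map σ *ᵥ (σ ∘ Pi.single i 1) :=
      funext fun k => RingHom.map_mulVec (σ : F →+* F) g.1 _ k
    simp only [formOf]
    rw [hv, ← Matrix.mulVec_mulVec, ← Matrix.mulVec_mulVec, dotProduct_mulVec (σ ∘ _),
      Matrix.vecMul_transpose]
  let B' : G3 := Matrix.GeneralLinearGroup.mkOfDetNeZero B hdet
  have h1 : (g.1.map σ)ᵀ = B'.1 * (g⁻¹ : G3).1 * (B'⁻¹ : G3).1 := by
    calc (g.1.map σ)ᵀ = (g.1.map σ)ᵀ * B'.1 * g.1 * (g⁻¹ : G3).1 * (B'⁻¹ : G3).1 := by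
          simp [mul_assoc]
      _ = _ := by rw [show (g.1.map σ)ᵀ * B'.1 * g.1 = B'.1 from hinv]
  have h2 := congrArg Matrix.trace h1
  rw [Matrix.trace_transpose, Matrix.trace_mul_comm, ← mul_assoc, Units.inv_mul, one_mul] at h2
  show ((g⁻¹ : G3)).1.trace = σ g.1.trace
  rw [← h2]
  simp [Matrix.trace, map_sum]

theorem not_fixesUnitary (hcard : Fintype.card F = p ^ 2) {g : G3} (hg : g ∈ P) (hab : tr g⁻¹ = tr g)
    (hne : tr g ^ p ≠ tr g) : ¬ FixesUnitary P := by
  rintro ⟨σ, f, hf, hfix⟩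
  have hfixg : σ (tr g) = tr g := by rw [← trace_inv_of_fixes hf hfix hg, hab]
  set S := RingHom.eqLocusField (σ : F →+* F) (RingHom.id F) with hS
  have hmem : ∀ x : F, x ∈ S ↔ σ x = x := fun x => Iff.rfl
  classical
  haveI : CharP S p := (RingHom.charP_iff_charP S.subtype p).2 inferInstance
  obtain ⟨j, hp, hj⟩ := FiniteField.card S p
  have hle : p ^ (j : ℕ) ≤ p ^ 2 := by
    rw [← hj, ← hcard]; exact Fintype.card_le_of_injective _ Subtype.val_injective
  have hj2 : (j : ℕ) ≤ 2 := (Nat.pow_le_pow_iff_right hp.one_lt).1 hle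
  rcases (show (j : ℕ) = 1 ∨ (j : ℕ) = 2 by have := j.pos; omega) with e | e
  · refine hne ?_
    have := congrArg Subtype.val (FiniteField.pow_card (⟨tr g, (hmem _).2 hfixg⟩ : S))
    rwa [hj, e, pow_one] at this
  · have hsurj : Function.Surjective (Subtype.val : S → F) :=
      ((Fintype.bijective_iff_injective_and_card _).2 ⟨Subtype.val_injective, by rw [hj, hcard, e]⟩).2
    exact hf.ne_refl (RingEquiv.ext fun x => by obtain ⟨⟨y, hy⟩, rfl⟩ := hsurj x; exact hy)

end CfsgLib.ResThree
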