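import Cfsg.Agent.Lib.MaxSub.ResThree.NoTv.Main
import Cfsg.Agent.Lib.MaxSub.ResThree.Dihedral.Traces
import Cfsg.Agent.Lib.GW.IIb.Cover
import Cfsg.Agent.Lib.ClassSizesPSL2.Split
import Cfsg.Agent.Lib.SLCard

/-!
Lifts of classes of the quotient modulo scalars, and the scalars themselves.
-/

set_option autoImplicit false
set_option linter.unusedSectionVars false
set_option linter.style.haveILetI false

namespace CfsgLib.ResThree

open Matrix

variable {F : Type*} [Field F] [Finite F]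

local notation "G3" => Matrix.GeneralLinearGroup (Fin 3) F
local notation "Zs" => Cfsg.Geo.scalars (Fin 3) F

variable {P : Subgroup (Matrix.GeneralLinearGroup (Fin 3) F)}

theorem Core.mem_scalar_of_piZ (_hP : Core P) {g : P} (h : piZ P g = 1) : g ∈ Subgroup.subgroupOf Zs P :=
  (QuotientGroup.eq_one_iff g).1 h

theorem Core.piZ_scalar (_hP : Core P) {g : P} (h : g ∈ Subgroup.subgroupOf Zs P) : piZ P g = 1 :=
  (QuotientGroup.eq_one_iff g).2 h

/-- A class equal to its inverse class has a lift conjugate to its inverse. -/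
theorem Core.real_lift (hP : Core P) {e : P ⧸ Subgroup.subgroupOf Zs P} (he : IsConj e e⁻¹) :
    ∃ g : P, piZ P g = e ∧ IsConj g g⁻¹ ∧ ∀ n : ℕ, e ^ n = 1 → g ^ n = 1 := by
  obtain ⟨c₀, hc⟩ := isConj_iff.1 he
  obtain ⟨x, rfl⟩ := QuotientGroup.mk'_surjective _ e
  obtain ⟨c, rfl⟩ := QuotientGroup.mk'_surjective _ c₀
  set z : P := x * (c * x * c⁻¹) with hz
  have hzm : z ∈ Subgroup.subgroupOf Zs P := hP.mem_scalar_of_piZ (by
    show piZ P z = 1
    rw [hz, map_mul, map_mul, map_mul, map_inv, hc, mul_inv_cancel])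
  have hz3 := hP.pow_three_of_scalar hzm
  have hcomm : ∀ y : P, Commute z y := fun y => (hP.scalar_comm hzm y).symm
  set g : P := x * z with hg
  have hcg : c * g * c⁻¹ = g⁻¹ := by
    have e1 : c * x * c⁻¹ = x⁻¹ * z := by rw [hz]; group
    have e2 : c * z * c⁻¹ = z := by rw [← (hcomm c).eq, mul_inv_cancel_right]
    rw [hg, show c * (x * z) * c⁻¹ = (c * x * c⁻¹) * (c * z * c⁻¹) by group, e1, e2, _root_.mul_inv_rev,
      ((hcomm x⁻¹).inv_left).eq, mul_assoc]
    congr 1
    exact (inv_eq_of_mul_eq_one_right (by rw [← mul_assoc, ← pow_two, ← pow_succ]; exact hz3)).symm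
  have hpg : piZ P g = piZ P x := by rw [hg, map_mul, hP.piZ_scalar hzm, mul_one]
  refine ⟨g, hpg, isConj_iff.2 ⟨c, hcg⟩, fun n hn => ?_⟩
  have hgn : g ^ n ∈ Subgroup.subgroupOf Zs P := hP.mem_scalar_of_piZ (by
    show piZ P (g ^ n) = 1
    rw [map_pow, hpg]; exact hn)
  refine hP.eq_one_of_sq hgn ?_
  have h1 : c * g ^ n * c⁻¹ = (g ^ n)⁻¹ := by rw [← conj_pow, hcg, inv_pow]
  rw [hP.scalar_comm hgn c, mul_inv_cancel_right] at h1
  exact mul_eq_one_iff_eq_inv.2 h1

/-- A class equal to the class of its square, of order prime to three, has such a lift. -/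
theorem Core.sq_lift (hP : Core P) {n : ℕ} (hn : Nat.Coprime n 3) {e : P ⧸ Subgroup.subgroupOf Zs P}
    (he : e ^ n = 1) (hsq : IsConj e (e ^ 2)) :
    ∃ g : P, piZ P g = e ∧ g ^ n = 1 ∧ IsConj g (g ^ 2) := by
  obtain ⟨c₀, hc⟩ := isConj_iff.1 hsq
  obtain ⟨x, rfl⟩ := QuotientGroup.mk'_surjective _ e
  obtain ⟨c, rfl⟩ := QuotientGroup.mk'_surjective _ c₀
  have hn3 : n % 3 = 1 ∨ n % 3 = 2 := by
    have : ¬ 3 ∣ n := fun h => by
      have := Nat.eq_one_of_dvd_coprimes hn h dvd_rfl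
      omega
    omega
  obtain ⟨k, hk3, hkn⟩ : ∃ k : ℕ, 3 ∣ k ∧ ∃ j, k = 1 + n * j := by
    rcases hn3 with h | h
    · exact ⟨1 + n * 2, by omega, 2, rfl⟩
    · exact ⟨1 + n * 1, by omega, 1, rfl⟩
  obtain ⟨j, rfl⟩ := hkn
  set g := x ^ (1 + n * j) with hg
  have hxn : (x ^ n) ^ 3 = 1 := hP.pow_three_of_scalar (hP.mem_scalar_of_piZ (by
    show piZ P (x ^ n) = 1
    rw [map_pow]; exact he))
  have hgn : g ^ n = 1 := by
    obtain ⟨i, hi⟩ := hk3
    rw [hg, ← pow_mul, hi, show 3 * i * n = n * 3 * i by ring, pow_mul, pow_mul, hxn, one_pow]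
  have hpg : piZ P g = piZ P x := by rw [hg, map_pow, pow_add, pow_one, pow_mul, he, one_pow, mul_one]
  set z : P := (g ^ 2)⁻¹ * (c * g * c⁻¹) with hz
  have hzm : z ∈ Subgroup.subgroupOf Zs P := hP.mem_scalar_of_piZ (by
    show piZ P z = 1
    rw [hz, map_mul, map_inv, map_pow, map_mul, map_mul, map_inv, hpg, hc, inv_mul_cancel])
  have hzn : z ^ n = 1 := by
    have h := congrArg (· ^ n) (show c * g * c⁻¹ = g ^ 2 * z by rw [hz]; group)
    rw [conj_pow, hgn, mul_one, mul_inv_cancel, (show Commute (g ^ 2) z from hP.scalar_comm hzm _).mul_pow,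
      ← pow_mul, mul_comm 2 n, pow_mul, hgn, one_pow, one_mul] at h
    exact h.symm
  have hz1 : z = 1 := eq_one_of_coprime_pows hzn (hP.pow_three_of_scalar hzm) hn
  refine ⟨g, hpg, hgn, isConj_iff.2 ⟨c, ?_⟩⟩
  rw [hz, inv_mul_eq_one] at hz1
  exact hz1.symm

theorem tr_coe_inv (g : P) : tr ((g⁻¹ : P) : G3) = tr (g : G3)⁻¹ := by rw [InvMemClass.coe_inv]

theorem tr_of_isConj {g h : P} (hc : IsConj g h) : tr (g : G3) = tr (h : G3) :=
  tr_conj (MonoidHom.map_isConj P.subtype hc)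

/-- The trace of an element from the trace of a lift of its class. -/
theorem Core.tr_lift (hP : Core P) {g g₀ : P} (h : piZ P g₀ = piZ P g) :
    ∃ d : F, d ^ 3 = 1 ∧ tr (g : G3) = d * tr (g₀ : G3) ∧ tr (g : G3)⁻¹ = d ^ 2 * tr (g₀ : G3)⁻¹ := by
  have hz : g₀⁻¹ * g ∈ Subgroup.subgroupOf Zs P := hP.mem_scalar_of_piZ (by
    show piZ P (g₀⁻¹ * g) = 1
    rw [map_mul, map_inv, h, inv_mul_cancel])
  obtain ⟨d, hd⟩ := (Cfsg.Geo.mem_scalars_iff (g₀⁻¹ * g : P).1).1 hz
  have hd3 : (d : F) ^ 3 = 1 := hP.scalar_pow (g₀⁻¹ * g : P).2 hd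
  have hg : (g : G3).1 = (g₀ : G3).1 * (g₀⁻¹ * g : P).1.1 := by
    rw [← Units.val_mul, ← Subgroup.coe_mul, mul_inv_cancel_left]
  have hg' : ((g : G3)⁻¹).1 = (g₀⁻¹ * g : P).1⁻¹.1 * ((g₀ : G3)⁻¹).1 := by
    rw [← Units.val_mul, ← _root_.mul_inv_rev, ← Subgroup.coe_mul, mul_inv_cancel_left]
  refine ⟨d, hd3, ?_, ?_⟩
  · simp only [tr]
    rw [hg, hd, Matrix.mul_smul, mul_one, Matrix.trace_smul, smul_eq_mul]
  · simp only [tr]
    rw [hg', inv_eq_adjugate (hP.det_eq (g₀⁻¹ * g : P).2), hd, Matrix.adjugate_smul, Matrix.adjugate_one,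
      Matrix.smul_mul, one_mul, Matrix.trace_smul, smul_eq_mul, Fintype.card_fin]

theorem Core.center_eq_bot_of_char_three (hP : Core P) [CharP F 3] : Subgroup.subgroupOf Zs P = ⊥ := by
  haveI : Fact (Nat.Prime 3) := ⟨Nat.prime_three⟩
  rw [Subgroup.eq_bot_iff_forall]
  intro z hz
  obtain ⟨d, hd⟩ := (Cfsg.Geo.mem_scalars_iff z.1).1 hz
  have h3 := hP.scalar_pow z.2 hd
  have h : ((d : F) - 1) ^ 3 = 0 := by rw [sub_pow_char, h3, one_pow, sub_self]
  exact Subtype.ext (Units.ext (by rw [hd, sub_eq_zero.1 (eq_zero_of_pow_eq_zero h), one_smul]; rfl))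

/-- Over a projective special linear quotient of order prime to twenty seven the scalars are trivial. -/
theorem Core.center_eq_bot_of_small (hP : Core P) {M : Type*} [Group M]
    (e : P ⧸ Subgroup.subgroupOf Zs P ≃* M) (h9 : ¬ 9 ∣ Nat.card M) :
    Subgroup.subgroupOf Zs P = ⊥ := by
  haveI := hP.isPerfect
  have hcard : Nat.card P = Nat.card M * Nat.card (Subgroup.subgroupOf Zs P) := by
    rw [Subgroup.card_eq_card_quotient_mul_card_subgroup (Subgroup.subgroupOf Zs P), Nat.card_congr e.toEquiv]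
  have key := CfsgLib.CsPSL.commutator_inf_center_eq_bot (G := P) fun r hr R z hz hzR => by
    haveI : Fact r.Prime := ⟨hr⟩
    have hz3 : z ^ 3 = 1 := hP.pow_three_of_scalar (hP.center_eq ▸ hz)
    by_cases hr3 : r = 3
    · subst hr3
      obtain ⟨k, hk⟩ := R.isPGroup'.exists_card_eq
      have h27 : ¬ 27 ∣ Nat.card P := fun h => by
        rw [hcard] at h
        rcases (Nat.dvd_prime Nat.prime_three).1 hP.card_scalar with e1 | e1 <;> rw [e1] at h <;> omega
      have hk2 : k ≤ 2 := by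
        by_contra hk2
        exact h27 ((pow_dvd_pow 3 (show 3 ≤ k by omega)).trans (hk ▸ Subgroup.card_subgroup_dvd_card _))
      have hab : ∀ a b : (R : Subgroup P), Commute a b := by
        intro a b
        interval_cases k
        · haveI := (Nat.card_eq_one_iff_unique.1 hk).1
          exact Subsingleton.elim _ _
        · haveI := isCyclic_of_prime_card (p := 3) (by rw [hk, pow_one])
          obtain ⟨s, hs⟩ := IsCyclic.exists_generator (α := (R : Subgroup P))
          obtain ⟨i, rfl⟩ := Subgroup.mem_zpowers_iff.1 (hs a)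
          obtain ⟨i', rfl⟩ := Subgroup.mem_zpowers_iff.1 (hs b)
          exact Commute.zpow_zpow_self s i i'
        · haveI := IsPGroup.isMulCommutative_of_card_eq_prime_sq (G := (R : Subgroup P)) hk
          exact mul_comm' a b
      have : ⁅(R : Subgroup P), (R : Subgroup P)⁆ = ⊥ := by
        rw [Subgroup.commutator_eq_bot_iff_le_centralizer]
        exact fun a ha => Subgroup.mem_centralizer_iff.2 fun b hb => congrArg Subtype.val (hab ⟨b, hb⟩ ⟨a, ha⟩)
      exact Subgroup.mem_bot.1 (this ▸ hzR)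
    · obtain ⟨j, hj⟩ := R.isPGroup' ⟨z, (Subgroup.commutator_le_self _) hzR⟩
      exact eq_one_of_coprime_pows (congrArg Subtype.val hj) hz3
        (Nat.Coprime.pow_left _ ((Nat.coprime_primes hr Nat.prime_three).2 hr3))
  rw [Group.IsPerfect.commutator_eq_top, top_inf_eq] at key
  rwa [hP.center_eq] at key

/-- Over a large projective special linear group the scalars are trivial. -/
theorem Core.center_eq_bot_of_large (hP : Core P) {K : Type} [Field K] [Fintype K] (h10 : 10 ≤ Fintype.card K)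
    (e : P ⧸ Subgroup.subgroupOf Zs P ≃* Matrix.ProjectiveSpecialLinearGroup (Fin 2) K) :
    Subgroup.subgroupOf Zs P = ⊥ := by
  haveI := hP.isPerfect
  have h := CfsgLib.GW.IIbPsl.center_eq_bot_of_model (K := P) (hP.center_eq.symm ▸ hP.odd_scalar) h10
    ((QuotientGroup.quotientMulEquivOfEq hP.center_eq).trans e)
  rwa [hP.center_eq] at h

/-- The projection is injective when the scalars are trivial. -/
theorem Core.piZ_injective (_hP : Core P) (h : Subgroup.subgroupOf Zs P = ⊥) : Function.Injective (piZ P) := by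
  rw [← MonoidHom.ker_eq_bot_iff, piZ, QuotientGroup.ker_mk', h]

end CfsgLib.ResThree
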