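import Cfsg.Agent.Lib.MaxSub.ResThree.Dihedral.Facts
import Cfsg.Agent.Lib.MaxSub.ResThree.Dihedral.Lifts
import Cfsg.Agent.Lib.MaxSub.ResThree.Dihedral.Fields
import Cfsg.Agent.Lib.MaxSub.ResThree.Dihedral.Cross
import Cfsg.Agent.Lib.SmallSimple.Order168
import Cfsg.Agent.S0254
import Cfsg.Agent.S0483

/-!
Primitive perfect subgroups of `GL₃` with dihedral Sylow two-subgroups.
-/

set_option autoImplicit false
set_option linter.unusedSectionVars false
set_option linter.style.haveILetI false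
set_option maxHeartbeats 1000000

namespace CfsgLib.ResThree

open Matrix

variable {F : Type*} [Field F] [Fintype F]

local notation "G3" => Matrix.GeneralLinearGroup (Fin 3) F
local notation "Zs" => Cfsg.Geo.scalars (Fin 3) F
local notation "L32" => Matrix.ProjectiveSpecialLinearGroup (Fin 3) (ZMod 2)
local notation "PSLK(" K ")" => Matrix.ProjectiveSpecialLinearGroup (Fin 2) K

theorem isConj_of_equiv {A B : Type*} [Group A] [Group B] (e : A ≃* B) {x y : A} (h : IsConj (e x) (e y)) :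
    IsConj x y := by
  simpa using e.symm.toMonoidHom.map_isConj h

variable {P : Subgroup (Matrix.GeneralLinearGroup (Fin 3) F)} {p : ℕ} [Fact p.Prime] [CharP F p]

theorem pow_char_int (m : ℤ) : (m : F) ^ p = m := by
  rw [← frobenius_def, map_intCast]

theorem Core.isConj_lift (hP : Core P) (hZ : Subgroup.subgroupOf Zs P = ⊥) {g h : P}
    (hc : IsConj (piZ P g) (piZ P h)) : IsConj g h := by
  obtain ⟨c₀, hc⟩ := isConj_iff.1 hc
  obtain ⟨c, rfl⟩ := QuotientGroup.mk'_surjective _ c₀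
  exact isConj_iff.2 ⟨c, hP.piZ_injective hZ (by rw [map_mul, map_mul, map_inv]; exact hc)⟩

theorem Core.pow_lift (hP : Core P) (hZ : Subgroup.subgroupOf Zs P = ⊥) {g : P} {n : ℕ} (h : piZ P g ^ n = 1) :
    g ^ n = 1 :=
  hP.piZ_injective hZ (by rw [map_pow, h, map_one])

theorem coe_pow_eq_one {g : P} {n : ℕ} (h : g ^ n = 1) : (g : G3) ^ n = 1 := by
  rw [← SubmonoidClass.coe_pow, h, OneMemClass.coe_one]

theorem tr_inv_of_real {g : P} (h : IsConj g g⁻¹) : tr (g : G3)⁻¹ = tr (g : G3) := by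
  rw [← InvMemClass.coe_inv]; exact (tr_of_isConj h).symm

theorem tr_sq_of_conj {g : P} (h : IsConj g (g ^ 2)) :
    tr ((g : G3) ^ 2) = tr (g : G3) ∧ tr ((g : G3)⁻¹ ^ 2) = tr (g : G3)⁻¹ := by
  refine ⟨?_, ?_⟩
  · rw [← SubmonoidClass.coe_pow]; exact (tr_of_isConj h).symm
  · obtain ⟨c, hc⟩ := isConj_iff.1 h
    have h' : IsConj g⁻¹ (g⁻¹ ^ 2) := isConj_iff.2 ⟨c, by rw [← conj_inv, hc, inv_pow]⟩
    rw [← InvMemClass.coe_inv, ← SubmonoidClass.coe_pow]; exact (tr_of_isConj h').symm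

/-- With trivial scalars and all classes unipotent or real a quadratic form is fixed. -/
theorem quadratic_of_real (hP : Core P) (hZ : Subgroup.subgroupOf Zs P = ⊥)
    (h : ∀ e : P ⧸ Subgroup.subgroupOf Zs P, e ^ p = 1 ∨ IsConj e e⁻¹) :
    ∃ Q : (Fin 3 → F) → F, Cfsg.Geo.IsNondegenerateQuadraticForm Q ∧
      Cfsg.Geo.FixesQuadForm (Cfsg.Geo.matrixSet P) Q := by
  refine (exists_quadratic hP.envelope_top fun g hg => ?_).2
  show tr g = tr g⁻¹
  rcases h (piZ P ⟨g, hg⟩) with h | h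
  · have hp : g ^ p = 1 := coe_pow_eq_one (hP.pow_lift hZ h)
    rw [tr_of_pow_char p (k := 1) (by rw [pow_one]; exact hp),
      tr_of_pow_char p (g := g⁻¹) (k := 1) (by rw [pow_one, inv_pow, hp, inv_one])]
  · exact (tr_inv_of_real (g := ⟨g, hg⟩) (hP.isConj_lift hZ (g := ⟨g, hg⟩) (h := ⟨g, hg⟩⁻¹) (by rw [map_inv]; exact h))).symm

theorem card_psl_two {K : Type} [Field K] [Fintype K] (hodd : Odd (Fintype.card K)) :
    2 * Nat.card (Matrix.ProjectiveSpecialLinearGroup (Fin 2) K) = Fintype.card K * (Fintype.card K ^ 2 - 1) := by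
  obtain ⟨k, hk⟩ := hodd
  have h := CfsgLib.SLCard.gcd_mul_card_PSL (F := K) (n := 2) (by norm_num)
  rwa [hk, show Nat.gcd 2 (2 * k + 1 - 1) = 2 by simp, CfsgLib.SLCard.card_SL_two] at h

/-- Cross characteristic bounds the field of the linear quotient. -/
theorem card_le_seven (hP : Core P) (hZ : Subgroup.subgroupOf Zs P = ⊥) {K : Type} [Field K] [Fintype K]
    (hodd : Odd (Fintype.card K)) (hne : p ≠ ringChar K)
    (e : P ⧸ Subgroup.subgroupOf Zs P ≃* PSLK(K)) : Fintype.card K ≤ 8 := by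
  let ψ : P ≃* PSLK(K) :=
    (MulEquiv.ofBijective (piZ P) ⟨hP.piZ_injective hZ, QuotientGroup.mk'_surjective _⟩).trans e
  let ρ : Matrix.SpecialLinearGroup (Fin 2) K →* GL (Fin 3) F :=
    P.subtype.comp (ψ.symm.toMonoidHom.comp (QuotientGroup.mk' _))
  have h2 : (2 : K) ≠ 0 := by
    refine Ring.two_ne_zero fun h => ?_
    have := FiniteField.even_card_of_char_two h
    obtain ⟨k, hk⟩ := hodd
    omega
  have := Cross.degree_bound h2 (K := F) (by rwa [ringChar.eq F p]) ρ (fun g hg => by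
    rw [MonoidHom.mem_ker] at hg
    have h1 : ψ.symm (QuotientGroup.mk' _ g) = 1 := P.subtype_injective (by rw [map_one]; exact hg)
    rw [EmbeddingLike.map_eq_one_iff] at h1
    exact (QuotientGroup.eq_one_iff g).1 h1)
  omega

theorem psl_cases_quot {K : Type} [Field K] [Fintype K] (hodd : Odd (Fintype.card K))
    (e : P ⧸ Subgroup.subgroupOf Zs P ≃* PSLK(K)) (x : P ⧸ Subgroup.subgroupOf Zs P) :
    x ^ ringChar K = 1 ∨ (IsConj x x⁻¹ ∧
      (x ^ ((Fintype.card K - 1) / 2) = 1 ∨ x ^ ((Fintype.card K + 1) / 2) = 1)) := by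
  haveI : Fact (ringChar K).Prime := ⟨CharP.char_is_prime K _⟩
  rcases psl_cases (K := K) (ringChar K) hodd (e x) with h | ⟨hc, h⟩
  · left; rwa [← map_pow, EmbeddingLike.map_eq_one_iff] at h
  · right
    refine ⟨isConj_of_equiv e (by rw [map_inv]; exact hc), ?_⟩
    simpa only [← map_pow, EmbeddingLike.map_eq_one_iff] using h

theorem isConj_unipotent_quot {K : Type} [Field K] [Fintype K]
    (e : P ⧸ Subgroup.subgroupOf Zs P ≃* PSLK(K)) {x : P ⧸ Subgroup.subgroupOf Zs P}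
    (hx : x ^ ringChar K = 1) {n : ℕ} {k : K} (hk : k ≠ 0) (hn : (n : K) = k * k) : IsConj x (x ^ n) := by
  haveI : Fact (ringChar K).Prime := ⟨CharP.char_is_prime K _⟩
  refine isConj_of_equiv e ?_
  rw [map_pow]
  exact isConj_pow_of_unipotent (ringChar K) (by rw [← map_pow, hx, map_one]) hk hn

theorem ringChar_of_card {K : Type} [Field K] [Fintype K] {ℓ k : ℕ} (hℓ : ℓ.Prime) (h : Fintype.card K = ℓ ^ k) :
    ringChar K = ℓ := by
  obtain ⟨n, hp, hn⟩ := FiniteField.card K (ringChar K)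
  exact (Nat.prime_dvd_prime_iff_eq hp hℓ).1 (hp.dvd_of_dvd_pow (h ▸ hn ▸ dvd_pow_self _ n.ne_zero))

/-- The group of order 168. -/
theorem linear_seven (hP : Core P) (hprim : Primitive P) {K : Type} [Field K] [Fintype K]
    (hK : Fintype.card K = 7) (hp7 : p ≠ 7) (e : P ⧸ Subgroup.subgroupOf Zs P ≃* PSLK(K)) :
    Nonempty (P ⧸ Subgroup.subgroupOf Zs P ≃* L32) ∧
      ((p = 2 ∧ Fintype.card F = 2) ∨
        (p ≠ 2 ∧ Fintype.card F = p ∧ (p % 7 = 1 ∨ p % 7 = 2 ∨ p % 7 = 4)) ∨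
        (Fintype.card F = p ^ 2 ∧ (p % 7 = 3 ∨ p % 7 = 5 ∨ p % 7 = 6) ∧ FixesUnitary P)) := by
  haveI : Fact (Nat.Prime 2) := ⟨Nat.prime_two⟩
  have hodd : Odd (Fintype.card K) := by rw [hK]; decide
  have hl : ringChar K = 7 := ringChar_of_card (k := 1) (by norm_num) (by rw [hK]; norm_num)
  have hcard : Nat.card PSLK(K) = 168 := by have := card_psl_two hodd; rw [hK] at this; omega
  haveI := hP.simple
  have hiso : Nonempty (P ⧸ Subgroup.subgroupOf Zs P ≃* L32) := by
    have h1 := CfsgLib.SLCard.gcd_mul_card_PSL (F := ZMod 2) (n := 3) (by norm_num)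
    have h2 := CfsgLib.SLCard.card_units_mul_card_SL (F := ZMod 2) (n := 3) (by norm_num)
    rw [Matrix.card_GL_field, Fin.prod_univ_three, ZMod.card] at h2
    simp [ZMod.card] at h1 h2
    haveI : IsSimpleGroup L32 := CfsgLib.SLPerfect.isSimpleGroup (F := ZMod 2) (n := 3) le_rfl
    exact CfsgLib.Order168.nonempty_mulEquiv (by rw [Nat.card_congr e.toEquiv, hcard])
      (by rw [Nat.card_eq_fintype_card]; omega)
  have hZ : Subgroup.subgroupOf Zs P = ⊥ := hP.center_eq_bot_of_small e (by rw [hcard]; decide)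
  have h7 : ∀ g : P, g ^ 7 = 1 → g ≠ 1 →
      (tr (g : G3) + tr (g : G3)⁻¹ = -1 ∧ tr (g : G3) * tr (g : G3) + tr (g : G3) + 2 = 0 ∧
          tr (g : G3)⁻¹ ≠ tr (g : G3)) ∧
        ((p % 7 = 1 ∨ p % 7 = 2 ∨ p % 7 = 4 → tr (g : G3) ^ p = tr (g : G3)) ∧
          (p % 7 = 3 ∨ p % 7 = 5 ∨ p % 7 = 6 → tr (g : G3) ^ p = tr (g : G3)⁻¹)) := by
    intro g hg hg1
    have hx : piZ P g ^ ringChar K = 1 := by rw [hl, ← map_pow, hg, map_one]
    have hc : IsConj g (g ^ 2) := hP.isConj_lift hZ (by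
      rw [map_pow]
      refine isConj_unipotent_quot e hx (n := 2) (k := (3 : ℕ)) ?_ ?_
      · rw [Ne, CharP.cast_eq_zero_iff K (ringChar K), hl]; decide
      · rw [← Nat.cast_mul, CharP.natCast_eq_natCast K (ringChar K), hl]; decide)
    obtain ⟨hs, hs'⟩ := tr_sq_of_conj hc
    exact ⟨order_seven (p := p) (hP.det_eq g.2) (coe_pow_eq_one hg) (fun h => hg1 (Subtype.ext h)) hp7 hs hs',
      seven_frob (hP.det_eq g.2) (coe_pow_eq_one hg) hs hs'⟩
  have hall : ∀ g : P, ((g : G3) = 1 ∨ ∃ m : ℤ, tr (g : G3) = m ∧ tr (g : G3)⁻¹ = m) ∨ (g ^ 7 = 1 ∧ g ≠ 1) := by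
    intro g
    rcases psl_cases_quot hodd e (piZ P g) with h | ⟨hc, h⟩
    · rw [hl] at h
      rcases eq_or_ne g 1 with rfl | h1
      · exact Or.inl (Or.inl rfl)
      · exact Or.inr ⟨hP.pow_lift hZ h, h1⟩
    · left; right
      have hab : tr (g : G3)⁻¹ = tr (g : G3) := tr_inv_of_real (hP.isConj_lift hZ (by rw [map_inv]; exact hc))
      rw [hK] at h
      rcases h with h | h
      · have h3 := (order_three (hP.det_eq g.2) (coe_pow_eq_one (hP.pow_lift hZ h))).1
        rw [hab] at h3 ⊢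
        rcases mul_eq_zero.1 (show tr (g : G3) * (tr (g : G3) - 3) = 0 by linear_combination h3) with e | e
        · exact ⟨0, by simpa using e⟩
        · exact ⟨3, by simpa using sub_eq_zero.1 e⟩
      · rw [hab]
        rcases order_four (hP.det_eq g.2) (coe_pow_eq_one (hP.pow_lift hZ h)) hab with e | e | e
        · exact ⟨3, by simpa using e⟩
        · exact ⟨-1, by simpa using e⟩
        · exact ⟨1, by simpa using e⟩
  have hint : ∀ g : P, ((g : G3) = 1 ∨ ∃ m : ℤ, tr (g : G3) = m ∧ tr (g : G3)⁻¹ = m) →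
      tr (g : G3) ^ p = tr (g : G3) ∧ tr (g : G3) ^ p = tr (g : G3)⁻¹ := by
    rintro g (e | ⟨m, e, e'⟩)
    · rw [e, inv_one, tr_one, show (3 : F) = ((3 : ℤ) : F) by norm_num, pow_char_int]; exact ⟨rfl, rfl⟩
    · rw [e, e', pow_char_int]; exact ⟨rfl, rfl⟩
  refine ⟨hiso, ?_⟩
  have hp : p % 7 ≠ 0 := fun h =>
    hp7 ((Nat.prime_dvd_prime_iff_eq (by norm_num) Fact.out).1 (Nat.dvd_of_mod_eq_zero h)).symm
  by_cases h124 : p % 7 = 1 ∨ p % 7 = 2 ∨ p % 7 = 4
  · have hcF : Fintype.card F = p := card_eq_char hP hprim fun g hg => by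
      rcases hall ⟨g, hg⟩ with h | ⟨h, h1⟩
      · exact (hint _ h).1
      · exact (h7 _ h h1).2.1 h124
    rcases eq_or_ne p 2 with h2 | h2
    · exact Or.inl ⟨h2, hcF.trans h2⟩
    · exact Or.inr (Or.inl ⟨h2, hcF, h124⟩)
  · have h356 : p % 7 = 3 ∨ p % 7 = 5 ∨ p % 7 = 6 := by omega
    have hu : ∀ g ∈ P, tr g ^ p = tr g⁻¹ := fun g hg => by
      rcases hall ⟨g, hg⟩ with h | ⟨h, h1⟩
      · exact (hint _ h).2
      · exact (h7 _ h h1).2.2 h356
    have hd : 7 ∣ Nat.card P := by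
      rw [Subgroup.card_eq_card_quotient_mul_card_subgroup (Subgroup.subgroupOf Zs P), Nat.card_congr e.toEquiv, hcard]
      exact dvd_mul_of_dvd_left (by norm_num) _
    haveI : Fact (Nat.Prime 7) := ⟨by norm_num⟩
    obtain ⟨g, hg⟩ := exists_prime_orderOf_dvd_card' 7 hd
    have hg7 : g ^ 7 = 1 := by rw [← hg, pow_orderOf_eq_one]
    have hg1 : g ≠ 1 := fun e => by rw [e, orderOf_one] at hg; omega
    have hcF : Fintype.card F = p ^ 2 := card_eq_sq hP hprim
      (fun x hx => by rw [hu x hx, hu x⁻¹ (inv_mem hx), inv_inv]) (g := (g : G3))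
      (by rw [hu _ g.2]; exact (h7 g hg7 hg1).1.2.2)
    exact Or.inr (Or.inr ⟨hcF, h356, fixesUnitary_of_traces hP hcF hu⟩)

/-- Nine commuting elements of trace zero are impossible. -/
theorem scalars_ne_bot_of_nine (_hP : Core P) (R : Subgroup P) (hR : Nat.card R = 9)
    (hcomm : ∀ a ∈ R, ∀ b ∈ R, a * b = b * a) (h3 : (3 : F) ≠ 0) (h0 : ∀ g ∈ R, g ≠ 1 → tr (g : G3) = 0) :
    False := by
  classical
  haveI := Fintype.ofFinite R
  have hli : LinearIndependent F (fun g : R => (g.1 : G3).1) := by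
    rw [Fintype.linearIndependent_iff]
    intro c hc h
    have := congrArg (fun M => (M * ((h.1⁻¹ : P) : G3).1).trace) hc
    simp only [Finset.sum_mul, Matrix.smul_mul, Matrix.trace_sum, Matrix.trace_smul, zero_mul,
      Matrix.trace_zero] at this
    rw [Finset.sum_eq_single h] at this
    · rw [← Units.val_mul, ← Subgroup.coe_mul, mul_inv_cancel, OneMemClass.coe_one, Units.val_one,
        Matrix.trace_one, Fintype.card_fin, Nat.cast_ofNat, smul_eq_mul] at this
      exact (mul_eq_zero.1 this).resolve_right h3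
    · intro b _ hb
      rw [← Units.val_mul, ← Subgroup.coe_mul]
      have h1 : (b.1 * h.1⁻¹ : P) ≠ 1 := fun e => hb (Subtype.ext (mul_inv_eq_one.1 e))
      rw [show ((b.1 * h.1⁻¹ : P) : G3).1.trace = 0 from h0 _ (R.mul_mem b.2 (R.inv_mem h.2)) h1, smul_zero]
    · simp
  have htop := hli.span_eq_top_of_card_eq_finrank' (by
    rw [← Nat.card_eq_fintype_card, hR, Module.finrank_matrix]
    simp)
  have key : ∀ A B : Matrix (Fin 3) (Fin 3) F, A * B = B * A := by
    intro A B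
    refine Submodule.span_induction (p := fun A _ => A * B = B * A) ?_ ?_ ?_ ?_
      (htop.symm ▸ Submodule.mem_top : A ∈ Submodule.span F (Set.range fun g : R => (g.1 : G3).1))
    · rintro _ ⟨a, rfl⟩
      refine Submodule.span_induction (p := fun B _ => (a.1 : G3).1 * B = B * (a.1 : G3).1) ?_ ?_ ?_ ?_
        (htop.symm ▸ Submodule.mem_top : B ∈ Submodule.span F (Set.range fun g : R => (g.1 : G3).1))
      · rintro _ ⟨b, rfl⟩
        exact congrArg (fun x : P => x.1.1) (hcomm _ a.2 _ b.2)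
      · simp
      · intro u v _ _ hu hv; rw [mul_add, add_mul, hu, hv]
      · intro c u _ hu; rw [Matrix.mul_smul, Matrix.smul_mul, hu]
    · simp
    · intro u v _ _ hu hv; rw [mul_add, add_mul, hu, hv]
    · intro c u _ hu; rw [Matrix.mul_smul, Matrix.smul_mul, hu]
  have := congrFun (congrFun (key (Matrix.single 0 1 1) (Matrix.single 1 0 1)) 0) 0
  simp at this

/-- The alternating group of degree six. -/
theorem linear_nine (hP : Core P) (hprim : Primitive P) {K : Type} [Field K] [Fintype K]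
    (hK : Fintype.card K = 9) (hp3 : p ≠ 3) (e : P ⧸ Subgroup.subgroupOf Zs P ≃* PSLK(K)) :
    Nonempty (P ⧸ Subgroup.subgroupOf Zs P ≃* alternatingGroup (Fin 6)) ∧
      ((Fintype.card F = p ∧ (p % 15 = 1 ∨ p % 15 = 4)) ∨
        (Fintype.card F = p ^ 2 ∧ p ≠ 3 ∧ (p % 5 = 2 ∨ p % 5 = 3) ∧ ¬ FixesUnitary P) ∨
        (Fintype.card F = p ^ 2 ∧ (p = 5 ∨ p % 15 = 11 ∨ p % 15 = 14) ∧ FixesUnitary P)) := by
  have hodd : Odd (Fintype.card K) := by rw [hK]; decide
  have hl : ringChar K = 3 := ringChar_of_card (k := 2) (by norm_num) (by rw [hK]; norm_num)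
  have hcard : Nat.card PSLK(K) = 360 := by have := card_psl_two hodd; rw [hK] at this; omega
  have h3F : (3 : F) ≠ 0 := fun h => hp3 ((Nat.prime_dvd_prime_iff_eq Fact.out Nat.prime_three).1
    ((CharP.cast_eq_zero_iff F p 3).1 (by exact_mod_cast h)))
  have hreal : ∀ x : P ⧸ Subgroup.subgroupOf Zs P,
      IsConj x x⁻¹ ∧ (x ^ 3 = 1 ∨ x ^ 4 = 1 ∨ x ^ 5 = 1) := by
    intro x
    rcases psl_cases_quot hodd e x with h | ⟨hc, h⟩
    · obtain ⟨i, hi⟩ : IsSquare (-1 : K) := by rw [FiniteField.isSquare_neg_one_iff, hK]; norm_num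
      have h2 : IsConj x (x ^ 2) := isConj_unipotent_quot e h (n := 2) (k := i)
        (fun h0 => by rw [h0, mul_zero] at hi; exact neg_ne_zero.2 one_ne_zero hi) (by
          rw [← hi]
          have h30 : ((3 : ℕ) : K) = 0 := by rw [← hl]; exact CharP.cast_eq_zero K (ringChar K)
          push_cast at h30 ⊢
          linear_combination h30)
      rw [hl] at h
      rw [show x ^ 2 = x⁻¹ from (inv_eq_of_mul_eq_one_right (by rw [← pow_succ']; exact h)).symm] at h2
      exact ⟨h2, Or.inl h⟩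
    · rw [hK] at h; exact ⟨hc, Or.inr h⟩
  -- real lifts
  have hlift : ∀ g : P, ∃ g₀ : P, piZ P g₀ = piZ P g ∧ IsConj g₀ g₀⁻¹ ∧ tr (g₀ : G3)⁻¹ = tr (g₀ : G3) ∧
      ((∃ m : ℤ, tr (g₀ : G3) = m) ∨
        ((g₀ : G3) ^ 5 = 1 ∧ p ≠ 5 ∧ tr (g₀ : G3) * tr (g₀ : G3) - tr (g₀ : G3) - 1 = 0)) := by
    intro g
    obtain ⟨hc, hord⟩ := hreal (piZ P g)
    obtain ⟨g₀, hπ, hg₀, hpow⟩ := hP.real_lift hc
    have hab := tr_inv_of_real hg₀
    refine ⟨g₀, hπ, hg₀, hab, ?_⟩
    rcases hord with h | h | h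
    · have h3 := (order_three (hP.det_eq g₀.2) (coe_pow_eq_one (hpow 3 h))).1
      rw [hab] at h3
      rcases mul_eq_zero.1 (show tr (g₀ : G3) * (tr (g₀ : G3) - 3) = 0 by linear_combination h3) with e | e
      · exact Or.inl ⟨0, by simpa using e⟩
      · exact Or.inl ⟨3, by simpa using sub_eq_zero.1 e⟩
    · rcases order_four (hP.det_eq g₀.2) (coe_pow_eq_one (hpow 4 h)) hab with e | e | e
      · exact Or.inl ⟨3, by simpa using e⟩
      · exact Or.inl ⟨-1, by simpa using e⟩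
      · exact Or.inl ⟨1, by simpa using e⟩
    · rcases order_five (p := p) (hP.det_eq g₀.2) (coe_pow_eq_one (hpow 5 h)) hab with e | ⟨-, e⟩ | ⟨h5, e⟩
      · exact Or.inl ⟨3, by rw [e, tr_one]; norm_num⟩
      · exact Or.inl ⟨3, by simpa using e⟩
      · exact Or.inr ⟨coe_pow_eq_one (hpow 5 h), h5, e⟩
  -- a non-trivial scalar
  obtain ⟨z, hz, hz1⟩ : ∃ z : P, z ∈ Subgroup.subgroupOf Zs P ∧ z ≠ 1 := by
    by_contra h
    push Not at h
    have hZ : Subgroup.subgroupOf Zs P = ⊥ := (Subgroup.eq_bot_iff_forall _).2 h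
    haveI : Fact (Nat.Prime 3) := ⟨Nat.prime_three⟩
    obtain ⟨R⟩ := (inferInstance : Nonempty (Sylow 3 P))
    have hR : Nat.card R = 9 := by
      have hP360 : Nat.card P = 360 := by
        rw [Subgroup.card_eq_card_quotient_mul_card_subgroup (Subgroup.subgroupOf Zs P), Nat.card_congr e.toEquiv,
          hcard, hZ, Subgroup.card_bot, mul_one]
      have h9 : 3 ^ 2 ∣ Nat.card R := R.pow_dvd_card_of_pow_dvd_card (by rw [hP360]; norm_num)
      obtain ⟨k, hk⟩ := R.isPGroup'.exists_card_eq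
      have hk2 : k ≤ 2 := by
        by_contra h
        have h27 := (pow_dvd_pow 3 (show 3 ≤ k by omega)).trans (hk ▸ Subgroup.card_subgroup_dvd_card (R : Subgroup P))
        rw [hP360] at h27
        norm_num at h27
      rw [hk] at h9 ⊢
      have := (Nat.pow_dvd_pow_iff_le_right (by norm_num : 1 < 3)).1 h9
      rw [show k = 2 by omega]; rfl
    haveI := IsPGroup.isMulCommutative_of_card_eq_prime_sq (p := 3) (G := (R : Subgroup P)) (by rw [hR]; rfl)
    refine scalars_ne_bot_of_nine hP R hR (fun a ha b hb => congrArg Subtype.val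
      (mul_comm' (⟨a, ha⟩ : (R : Subgroup P)) ⟨b, hb⟩)) h3F fun g hg hg1 => ?_
    have h9 : g ^ 9 = 1 := by
      have h' := pow_card_eq_one' (G := (R : Subgroup P)) (x := ⟨g, hg⟩)
      rw [hR] at h'
      exact congrArg Subtype.val h'
    obtain ⟨hc, hord⟩ := hreal (piZ P g)
    have h3 : g ^ 3 = 1 := by
      rcases hord with h | h | h
      · exact hP.pow_lift hZ h
      · exact absurd (eq_one_of_coprime_pows h9 (hP.pow_lift hZ h) (by norm_num)) hg1
      · exact absurd (eq_one_of_coprime_pows h9 (hP.pow_lift hZ h) (by norm_num)) hg1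
    have hab := tr_inv_of_real (hP.isConj_lift hZ (g := g) (h := g⁻¹) (by rw [map_inv]; exact hc))
    have ht := (order_three (hP.det_eq g.2) (coe_pow_eq_one h3)).1
    rw [hab] at ht
    rcases mul_eq_zero.1 (show tr (g : G3) * (tr (g : G3) - 3) = 0 by linear_combination ht) with e | e
    · exact e
    · exact absurd (Subtype.ext (eq_one_of_tr_three (p := p) (hP.det_eq g.2) (sub_eq_zero.1 e)
        (hab.trans (sub_eq_zero.1 e)) (coe_pow_eq_one h3) ((Nat.coprime_primes Fact.out Nat.prime_three).2 hp3))) hg1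
  obtain ⟨d, hd⟩ := (Cfsg.Geo.mem_scalars_iff z.1).1 hz
  have hd1 : (d : F) ≠ 1 := fun h => hz1 (Subtype.ext (Units.ext (by rw [hd, h, one_smul]; rfl)))
  have hd3 : (d : F) ^ 3 = 1 := hP.scalar_pow z.2 hd
  have hd2 : (d : F) ^ 2 ≠ d := fun h => hd1 (mul_left_cancel₀ d.ne_zero (by rw [mul_one, ← pow_two]; exact h))
  refine ⟨⟨e.trans (Classical.choice (Cfsg.Agent.S0254.result hK))⟩, ?_⟩
  have hp15 : p % 3 ≠ 0 := fun h =>
    hp3 ((Nat.prime_dvd_prime_iff_eq Nat.prime_three Fact.out).1 (Nat.dvd_of_mod_eq_zero h)).symm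
  have hdp : ∀ c : F, c ^ 3 = 1 → c ^ p = c ^ (p % 3) := fun c hc => pow_eq_pow_mod p hc
  by_cases h23 : p % 5 = 2 ∨ p % 5 = 3
  · -- the traces of elements of order five are moved
    have hp5 : p ≠ 5 := by omega
    haveI : Fact (Nat.Prime 5) := ⟨Nat.prime_five⟩
    obtain ⟨x, hx⟩ := exists_prime_orderOf_dvd_card' (G := P) 5 (by
      rw [Subgroup.card_eq_card_quotient_mul_card_subgroup (Subgroup.subgroupOf Zs P), Nat.card_congr e.toEquiv, hcard]
      exact dvd_mul_of_dvd_left (by norm_num) _)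
    have hx5 : x ^ 5 = 1 := by rw [← hx, pow_orderOf_eq_one]
    obtain ⟨g, hπ, hg, hgp⟩ := hP.real_lift (hreal (piZ P x)).1
    have hg5 : g ^ 5 = 1 := hgp 5 (by rw [← map_pow, hx5, map_one])
    have hg1 : g ≠ 1 := fun h => by
      have hxz : x ∈ Subgroup.subgroupOf Zs P := hP.mem_scalar_of_piZ (by rw [← hπ, h, map_one])
      have := eq_one_of_coprime_pows hx5 (hP.pow_three_of_scalar hxz) (by norm_num)
      rw [this, orderOf_one] at hx
      omega
    have hab := tr_inv_of_real hg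
    obtain ⟨hq1, hq⟩ : p ≠ 5 ∧ tr (g : G3) * tr (g : G3) - tr (g : G3) - 1 = 0 := by
      rcases order_five (p := p) (hP.det_eq g.2) (coe_pow_eq_one hg5) hab with e | ⟨e, -⟩ | e
      · exact absurd (Subtype.ext e) hg1
      · exact absurd e hp5
      · exact e
    have hne : tr (g : G3) ^ p ≠ tr (g : G3) := by
      rw [(five_frob (hP.det_eq g.2) (coe_pow_eq_one hg5) hab hq).2 h23]
      intro h
      have h5 : ((5 : ℕ) : F) = 0 := by
        push_cast
        linear_combination -(2 * tr (g : G3) - 1) * h - 4 * hq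
      exact hp5 ((Nat.prime_dvd_prime_iff_eq Fact.out Nat.prime_five).1 ((CharP.cast_eq_zero_iff F p 5).1 h5))
    have hall : ∀ y ∈ P, (tr y ^ p) ^ p = tr y := by
      intro y hy
      obtain ⟨y₀, hπ, -, hab', hy₀⟩ := hlift ⟨y, hy⟩
      obtain ⟨c, hc3, hc, -⟩ := hP.tr_lift hπ
      rw [show tr y = c * tr (y₀ : G3) from hc, mul_pow, mul_pow]
      congr 1
      · rw [← pow_mul, pow_eq_pow_mod (p * p) hc3, Nat.mul_mod]
        rcases (show p % 3 = 1 ∨ p % 3 = 2 by omega) with e | e <;> rw [e, pow_one]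
      · rcases hy₀ with ⟨m, hm⟩ | ⟨h5, -, hq'⟩
        · rw [hm, pow_char_int, pow_char_int]
        · have hf := (five_frob (hP.det_eq y₀.2) h5 hab' hq').2 h23
          rw [hf, sub_pow_char, one_pow, hf, sub_sub_cancel]
    have hcF := card_eq_sq hP hprim hall hne
    exact Or.inr (Or.inl ⟨hcF, hp3, h23, not_fixesUnitary hcF g.2 hab hne⟩)
  · have hfix : ∀ y : P, ∃ (c : F) (y₀ : P), c ^ 3 = 1 ∧ tr (y : G3) = c * tr (y₀ : G3) ∧
        tr (y : G3)⁻¹ = c ^ 2 * tr (y₀ : G3) ∧ tr (y₀ : G3) ^ p = tr (y₀ : G3) := by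
      intro y
      obtain ⟨y₀, hπ, -, hab', hy₀⟩ := hlift y
      obtain ⟨c, hc3, hc, hc'⟩ := hP.tr_lift hπ
      refine ⟨c, y₀, hc3, hc, by rw [hc', hab'], ?_⟩
      rcases hy₀ with ⟨m, hm⟩ | ⟨h5, hp5, hq'⟩
      · rw [hm, pow_char_int]
      · refine (five_frob (hP.det_eq y₀.2) h5 hab' hq').1 ?_
        have : p % 5 ≠ 0 := fun h =>
          hp5 ((Nat.prime_dvd_prime_iff_eq Nat.prime_five Fact.out).1 (Nat.dvd_of_mod_eq_zero h)).symm
        omega
    rcases (show p % 3 = 1 ∨ p % 3 = 2 by omega) with h | h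
    · refine Or.inl ⟨card_eq_char hP hprim fun y hy => ?_, ?_⟩
      · obtain ⟨c, y₀, hc3, hc, -, hy₀⟩ := hfix ⟨y, hy⟩
        rw [show tr y = c * tr (y₀ : G3) from hc, mul_pow, hy₀, hdp c hc3, h, pow_one]
      · have : p % 5 ≠ 0 := fun h5 => by
          have := (Nat.prime_dvd_prime_iff_eq Nat.prime_five Fact.out).1 (Nat.dvd_of_mod_eq_zero h5)
          omega
        omega
    · have hu : ∀ y ∈ P, tr y ^ p = tr y⁻¹ := fun y hy => by
        obtain ⟨c, y₀, hc3, hc, hc', hy₀⟩ := hfix ⟨y, hy⟩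
        rw [show tr y = c * tr (y₀ : G3) from hc, show tr y⁻¹ = c ^ 2 * tr (y₀ : G3) from hc', mul_pow, hy₀,
          hdp c hc3, h]
      have hne : tr (z : G3) ^ p ≠ tr (z : G3) := by
        have htz : tr (z : G3) = (d : F) * 3 := by
          simp only [tr]
          rw [hd, Matrix.trace_smul, Matrix.trace_one, Fintype.card_fin, Nat.cast_ofNat, smul_eq_mul]
        rw [htz, mul_pow, hdp _ hd3, h, show (3 : F) = ((3 : ℤ) : F) by norm_num, pow_char_int]
        intro h'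
        exact hd2 (mul_right_cancel₀ (by push_cast; exact h3F) h')
      have hcF : Fintype.card F = p ^ 2 := card_eq_sq hP hprim
        (fun x hx => by rw [hu x hx, hu x⁻¹ (inv_mem hx), inv_inv]) hne
      refine Or.inr (Or.inr ⟨hcF, ?_, fixesUnitary_of_traces hP hcF hu⟩)
      by_cases h5 : p % 5 = 0
      · exact Or.inl ((Nat.prime_dvd_prime_iff_eq Nat.prime_five Fact.out).1 (Nat.dvd_of_mod_eq_zero h5)).symm
      · right; omega

/-- The alternating group of degree seven. -/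
theorem alternating_seven (hP : Core P) (hprim : Primitive P)
    (e : P ⧸ Subgroup.subgroupOf Zs P ≃* alternatingGroup (Fin 7)) :
    p = 5 ∧ Fintype.card F = 25 ∧ FixesUnitary P := by
  have hcardA : Nat.card (alternatingGroup (Fin 7)) = 2520 := by
    rw [nat_card_alternatingGroup, Nat.card_eq_fintype_card, Fintype.card_fin]; rfl
  have hdvd : ∀ r, r ∣ 2520 → r ∣ Nat.card P := fun r hr => by
    rw [Subgroup.card_eq_card_quotient_mul_card_subgroup (Subgroup.subgroupOf Zs P), Nat.card_congr e.toEquiv, hcardA]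
    exact dvd_mul_of_dvd_left hr _
  have hcases : ∀ x : P ⧸ Subgroup.subgroupOf Zs P, (x ^ 5 = 1 ∧ IsConj x (x ^ 2)) ∨
      (x ^ 7 = 1 ∧ IsConj x (x ^ 2)) ∨ (IsConj x x⁻¹ ∧ (x ^ 4 = 1 ∨ x ^ 6 = 1)) := by
    intro x
    rcases alt_cases (e x) with ⟨h, hc⟩ | ⟨h, hc⟩ | ⟨hc, h⟩
    · exact Or.inl ⟨by rwa [← map_pow, EmbeddingLike.map_eq_one_iff] at h,
        isConj_of_equiv e (by rw [map_pow]; exact hc)⟩
    · exact Or.inr (Or.inl ⟨by rwa [← map_pow, EmbeddingLike.map_eq_one_iff] at h,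
        isConj_of_equiv e (by rw [map_pow]; exact hc)⟩)
    · refine Or.inr (Or.inr ⟨isConj_of_equiv e (by rw [map_inv]; exact hc), ?_⟩)
      simpa only [← map_pow, EmbeddingLike.map_eq_one_iff] using h
  have five : ∀ g : P, g ^ 5 = 1 → IsConj g (g ^ 2) → g = 1 ∨ (p = 5 ∧ tr (g : G3) = 3 ∧ tr (g : G3)⁻¹ = 3) := by
    intro g h5 hc
    obtain ⟨c, hc'⟩ := isConj_iff.1 hc
    have h24 : IsConj (g ^ 2) (g ^ 4) := isConj_iff.2 ⟨c, by rw [← conj_pow, hc', ← pow_mul]⟩
    have hreal : IsConj g g⁻¹ := by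
      rw [show g⁻¹ = g ^ 4 from inv_eq_of_mul_eq_one_right (by rw [← pow_succ']; exact h5)]
      exact hc.trans h24
    have hab := tr_inv_of_real hreal
    rcases order_five_sq (hP.det_eq g.2) hab (tr_sq_of_conj hc).1 with e | e
    · exact Or.inl (Subtype.ext (eq_one_of_coprime_pows (pow_three_eq_one_of_tr (hP.det_eq g.2) e (hab.trans e))
        (coe_pow_eq_one h5) (by norm_num)))
    · by_cases hp : p = 5
      · exact Or.inr ⟨hp, e, hab.trans e⟩
      · exact Or.inl (Subtype.ext (eq_one_of_tr_three (p := p) (hP.det_eq g.2) e (hab.trans e) (coe_pow_eq_one h5)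
          ((Nat.coprime_primes Fact.out Nat.prime_five).2 hp)))
  have hp : p = 5 := by
    haveI : Fact (Nat.Prime 5) := ⟨Nat.prime_five⟩
    obtain ⟨x, hx⟩ := exists_prime_orderOf_dvd_card' (G := P) 5 (hdvd 5 (by norm_num))
    have hx5 : x ^ 5 = 1 := by rw [← hx, pow_orderOf_eq_one]
    have hx1 : piZ P x ≠ 1 := fun h => by
      have := eq_one_of_coprime_pows hx5 (hP.pow_three_of_scalar (hP.mem_scalar_of_piZ h)) (by norm_num)
      rw [this, orderOf_one] at hx
      omega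
    rcases hcases (piZ P x) with ⟨h, hc⟩ | ⟨h, -⟩ | ⟨-, h | h⟩
    · obtain ⟨g, hπ, hg, hgc⟩ := hP.sq_lift (n := 5) (by norm_num) h hc
      rcases five g hg hgc with e | ⟨e, -⟩
      · exact absurd (by rw [← hπ, e, map_one]) hx1
      · exact e
    all_goals
      exact absurd (eq_one_of_coprime_pows (by rw [← map_pow, hx5, map_one] : piZ P x ^ 5 = 1) h (by norm_num)) hx1
  subst hp
  have hu : ∀ y ∈ P, tr y ^ 5 = tr y⁻¹ := by
    intro y hy
    obtain ⟨y₀, hπ, hy₀⟩ : ∃ y₀ : P, piZ P y₀ = piZ P ⟨y, hy⟩ ∧ tr (y₀ : G3) ^ 5 = tr (y₀ : G3)⁻¹ := by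
      rcases hcases (piZ P ⟨y, hy⟩) with ⟨h, hc⟩ | ⟨h, hc⟩ | ⟨hc, h⟩
      · obtain ⟨g, hπ, hg, hgc⟩ := hP.sq_lift (n := 5) (by norm_num) h hc
        refine ⟨g, hπ, ?_⟩
        rcases five g hg hgc with e | ⟨-, e, e'⟩
        · rw [e, OneMemClass.coe_one, inv_one, tr_one, show (3 : F) = ((3 : ℤ) : F) by norm_num, pow_char_int]
        · rw [e, e', show (3 : F) = ((3 : ℤ) : F) by norm_num, pow_char_int]
      · obtain ⟨g, hπ, hg, hgc⟩ := hP.sq_lift (n := 7) (by norm_num) h hc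
        obtain ⟨hs, hs'⟩ := tr_sq_of_conj hgc
        exact ⟨g, hπ, (seven_frob (hP.det_eq g.2) (coe_pow_eq_one hg) hs hs').2 (by norm_num)⟩
      · obtain ⟨g, hπ, hg, hpow⟩ := hP.real_lift hc
        refine ⟨g, hπ, ?_⟩
        have hab := tr_inv_of_real hg
        obtain ⟨m, hm⟩ : ∃ m : ℤ, tr (g : G3) = m := by
          rcases h with h | h
          · rcases order_four (hP.det_eq g.2) (coe_pow_eq_one (hpow 4 h)) hab with e | e | e
            · exact ⟨3, by simpa using e⟩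
            · exact ⟨-1, by simpa using e⟩
            · exact ⟨1, by simpa using e⟩
          · rcases order_six (hP.det_eq g.2) (coe_pow_eq_one (hpow 6 h)) hab with e | e
            · rcases mul_eq_zero.1 (show tr (g : G3) * (tr (g : G3) - 2) = 0 by linear_combination e) with e' | e'
              · exact ⟨0, by simpa using e'⟩
              · exact ⟨2, by simpa using sub_eq_zero.1 e'⟩
            · rcases mul_eq_zero.1 (show (tr (g : G3) - 3) * (tr (g : G3) + 1) = 0 by linear_combination e) with e' | e'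
              · exact ⟨3, by simpa using sub_eq_zero.1 e'⟩
              · exact ⟨-1, by simpa using eq_neg_of_add_eq_zero_left e'⟩
        rw [hab, hm, pow_char_int]
    obtain ⟨c, hc3, hc, hc'⟩ := hP.tr_lift hπ
    rw [show tr y = c * tr (y₀ : G3) from hc, show tr y⁻¹ = c ^ 2 * tr (y₀ : G3)⁻¹ from hc', mul_pow, hy₀,
      pow_eq_pow_mod 5 hc3]
  haveI : Fact (Nat.Prime 7) := ⟨by norm_num⟩
  obtain ⟨x, hx⟩ := exists_prime_orderOf_dvd_card' (G := P) 7 (hdvd 7 (by norm_num))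
  have hx7 : x ^ 7 = 1 := by rw [← hx, pow_orderOf_eq_one]
  have hx1 : piZ P x ≠ 1 := fun h => by
    have := eq_one_of_coprime_pows hx7 (hP.pow_three_of_scalar (hP.mem_scalar_of_piZ h)) (by norm_num)
    rw [this, orderOf_one] at hx
    omega
  have hx7' : piZ P x ^ 7 = 1 := by rw [← map_pow, hx7, map_one]
  obtain ⟨g, hπ, hg, hgc⟩ : ∃ g : P, piZ P g = piZ P x ∧ g ^ 7 = 1 ∧ IsConj g (g ^ 2) := by
    rcases hcases (piZ P x) with ⟨h, -⟩ | ⟨h, hc⟩ | ⟨-, h | h⟩
    · exact absurd (eq_one_of_coprime_pows hx7' h (by norm_num)) hx1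
    · exact hP.sq_lift (n := 7) (by norm_num) h hc
    all_goals exact absurd (eq_one_of_coprime_pows hx7' h (by norm_num)) hx1
  obtain ⟨hs, hs'⟩ := tr_sq_of_conj hgc
  have hne := (order_seven (p := 5) (hP.det_eq g.2) (coe_pow_eq_one hg)
    (fun h => hx1 (by rw [← hπ, show g = 1 from Subtype.ext h, map_one])) (by norm_num) hs hs').2.2
  have hcF : Fintype.card F = 5 ^ 2 := card_eq_sq hP hprim
    (fun y hy => by rw [hu y hy, hu y⁻¹ (inv_mem hy), inv_inv]) (g := (g : G3)) (by rw [hu _ g.2]; exact hne)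
  exact ⟨rfl, hcF.trans (by norm_num), fixesUnitary_of_traces hP hcF hu⟩

/-- Primitive perfect groups with dihedral Sylow two-subgroups. -/
theorem dihedral_cases (hP : Core P) (hprim : Primitive P) (hd : DihedralSylow P) :
    (∃ Q : (Fin 3 → F) → F, Cfsg.Geo.IsNondegenerateQuadraticForm Q ∧
      Cfsg.Geo.FixesQuadForm (Cfsg.Geo.matrixSet P) Q) ∨
    (Nonempty (P ⧸ Subgroup.subgroupOf Zs P ≃* L32) ∧
      ((p = 2 ∧ Fintype.card F = 2) ∨
        (p ≠ 2 ∧ Fintype.card F = p ∧ (p % 7 = 1 ∨ p % 7 = 2 ∨ p % 7 = 4)) ∨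
        (Fintype.card F = p ^ 2 ∧ (p % 7 = 3 ∨ p % 7 = 5 ∨ p % 7 = 6) ∧ FixesUnitary P))) ∨
    (Nonempty (P ⧸ Subgroup.subgroupOf Zs P ≃* alternatingGroup (Fin 6)) ∧
      ((Fintype.card F = p ∧ (p % 15 = 1 ∨ p % 15 = 4)) ∨
        (Fintype.card F = p ^ 2 ∧ p ≠ 3 ∧ (p % 5 = 2 ∨ p % 5 = 3) ∧ ¬ FixesUnitary P) ∨
        (Fintype.card F = p ^ 2 ∧ (p = 5 ∨ p % 15 = 11 ∨ p % 15 = 14) ∧ FixesUnitary P))) ∨
    (Nonempty (P ⧸ Subgroup.subgroupOf Zs P ≃* alternatingGroup (Fin 7)) ∧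
      p = 5 ∧ Fintype.card F = 25 ∧ FixesUnitary P) := by
  haveI := hP.isPerfect
  obtain ⟨S, n, hn, hS⟩ := hd
  have hq := QuotientGroup.quotientMulEquivOfEq hP.oddCore_eq
  rcases Cfsg.Agent.S0483.result (X := P) S n hn hS with ⟨K, hf, hft, hodd, h3, ⟨e₀⟩⟩ | h7
  swap
  · obtain ⟨e₀⟩ := h7
    exact Or.inr (Or.inr (Or.inr ⟨⟨hq.symm.trans e₀⟩, alternating_seven hP hprim (hq.symm.trans e₀)⟩))
  let e : P ⧸ Subgroup.subgroupOf Zs P ≃* PSLK(K) := hq.symm.trans e₀
  obtain ⟨m, hl, hm⟩ := FiniteField.card K (ringChar K)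
  by_cases h5 : Fintype.card K = 5
  · left
    have hl5 : ringChar K = 5 := ringChar_of_card (k := 1) Nat.prime_five (by rw [h5]; norm_num)
    have hcard : Nat.card PSLK(K) = 60 := by have := card_psl_two hodd; rw [h5] at this; omega
    refine quadratic_of_real hP (hP.center_eq_bot_of_small e (by rw [hcard]; decide)) fun x => Or.inr ?_
    rcases psl_cases_quot hodd e x with h | ⟨hc, -⟩
    · have h4 := isConj_unipotent_quot e h (n := 4) (k := (2 : ℕ))
        (by rw [Ne, CharP.cast_eq_zero_iff K (ringChar K), hl5]; decide) (by push_cast; norm_num)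
      rw [hl5] at h
      rwa [show x ^ 4 = x⁻¹ from (inv_eq_of_mul_eq_one_right (by rw [← pow_succ']; exact h)).symm] at h4
    · exact hc
  by_cases hpl : p = ringChar K
  · left
    have hZ : Subgroup.subgroupOf Zs P = ⊥ := by
      by_cases h10 : 10 ≤ Fintype.card K
      · exact hP.center_eq_bot_of_large h10 e
      · rcases (show Fintype.card K = 7 ∨ Fintype.card K = 9 by
          obtain ⟨k, hk⟩ := hodd; omega) with h7 | h9
        · refine hP.center_eq_bot_of_small e ?_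
          have := card_psl_two hodd
          rw [h7] at this
          rw [show Nat.card PSLK(K) = 168 by omega]; decide
        · have : ringChar K = 3 := ringChar_of_card (k := 2) Nat.prime_three (by rw [h9]; norm_num)
          rw [this] at hpl
          subst hpl
          exact hP.center_eq_bot_of_char_three
    refine quadratic_of_real hP hZ fun x => ?_
    rcases psl_cases_quot hodd e x with h | ⟨hc, -⟩
    · rw [← hpl] at h; exact Or.inl h
    · exact Or.inr hc
  have h10 : ¬ 10 ≤ Fintype.card K := fun h10 => by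
    have := card_le_seven (p := p) hP (hP.center_eq_bot_of_large h10 e) hodd hpl e
    omega
  rcases (show Fintype.card K = 7 ∨ Fintype.card K = 9 by obtain ⟨k, hk⟩ := hodd; omega) with h7 | h9
  · have hl7 : ringChar K = 7 := ringChar_of_card (k := 1) (by norm_num) (by rw [h7]; norm_num)
    exact Or.inr (Or.inl (linear_seven hP hprim h7 (fun h => hpl (h.trans hl7.symm)) e))
  · have hl3 : ringChar K = 3 := ringChar_of_card (k := 2) Nat.prime_three (by rw [h9]; norm_num)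
    exact Or.inr (Or.inr (Or.inl (linear_nine hP hprim h9 (fun h => hpl (h.trans hl3.symm)) e)))

end CfsgLib.ResThree
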